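import Mathlib
import Cfsg.Agent.H448.FprCent.SteTor
import Cfsg.Agent.H378.TwRows
import Cfsg.Agent.H365.Zsig
import Cfsg.Agent.H398.FPR.Count
import Cfsg.Agent.H452.FprCyc
import Cfsg.Agent.H129.RealT_m3
import Cfsg.Agent.H129.RealE7_m3
import Cfsg.Agent.H129.DataE7h
import Cfsg.Agent.H129.DataE7m
import Cfsg.Agent.H129.DataE6
import Cfsg.Agent.H378.RegE7
import Cfsg.Agent.H934.HeisE7
import Cfsg.Agent.H934.HeisE6_m3
import Cfsg.Agent.H934.HeisTwE6
import Cfsg.Agent.S1054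
import Cfsg.Agent.S1070
import Cfsg.Agent.H129.DataE6n
import Cfsg.Agent.H129.DataTE6n
import Cfsg.Agent.H892.TExcA
import Cfsg.Agent.H701.CycPair_m3
import Cfsg.Agent.S1059
import Cfsg.Agent.S1055
import Cfsg.Agent.S1067
import Cfsg.Agent.S1071
import Cfsg.Agent.Lib.FastDecM
import Cfsg.Agent.FastGrp
import Cfsg.Agent.Prune
set_option linter.all false

section
prune_inst 0x7ff2fff8afb8addfffff7e7ffed9dffc3990dfffafdff943ffe8e3ff0fdf03080fc5fb8f1de010fe0e76e21410b87813fb7eefffeb6bdc7ffffd5ff41ffbee5fe5ffb50951d598340f7c6ffe9bf07f8e7f3fffffffffffffffffffffffffffbeffbfffffffff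

-- part: H448/FprExc/NCGrp
section
set_option linter.all false
open scoped Cfsg.Agent.FastGrp

/-!
# The normaliser of a subgroup of prime order
-/

set_option autoImplicit false
set_option linter.unusedSectionVars false
open Subgroup MulAction

namespace Cfsg.Agent.H448.FprExc

variable {G : Type*} [Group G] [Finite G] {p : ℕ}

theorem conj_pow_iter {y x : G} {j : ℕ} (h : y * x * y⁻¹ = x ^ j) (n : ℕ) : y ^ n * x * (y ^ n)⁻¹ = x ^ j ^ n := by
  induction n with
  | zero => simp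
  | succ n ih =>
    calc y ^ (n + 1) * x * (y ^ (n + 1))⁻¹ = y * (y ^ n * x * (y ^ n)⁻¹) * y⁻¹ := by rw [pow_succ']; group
      _ = y * x ^ j ^ n * y⁻¹ := by rw [ih]
      _ = (y * x * y⁻¹) ^ j ^ n := by rw [conj_pow]
      _ = x ^ j ^ (n + 1) := by rw [h, ← pow_mul, pow_succ']

/-- **`N/C` is cyclic, generated by a power map.** -/
theorem exists_gen [hp : Fact p.Prime] {x : G} (hx : orderOf x = p) :
    ∃ (y : G) (j : ℕ), y * x * y⁻¹ = x ^ j ∧ Nat.card (normalizer ((zpowers x : Subgroup G) : Set G)) =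
      Nat.card (centralizer ({x} : Set G)) * orderOf (j : ZMod p) := by
  classical
  set N := normalizer ((zpowers x : Subgroup G) : Set G) with hN
  let f : N →* MulAut (zpowers x) := (zpowers x).normalizerMonoidHom
  have hZ : Nat.card (zpowers x) = p := by rw [Nat.card_zpowers, hx]
  have hcyc : IsCyclic (MulAut (zpowers x)) := by
    have h1 : IsCyclic (ZMod (Nat.card (zpowers x)))ˣ := by rw [hZ]; infer_instance
    exact isCyclic_of_injective (IsCyclic.mulAutMulEquiv (zpowers x)).toMonoidHom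
      (IsCyclic.mulAutMulEquiv (zpowers x)).injective
  have hrc : IsCyclic f.range := inferInstance
  obtain ⟨⟨_, y, rfl⟩, hy⟩ := hrc.exists_generator
  have hcard : orderOf (f y) = Nat.card f.range := by
    rw [← Nat.card_zpowers]
    have h1 : zpowers (f y) = f.range := by
      apply le_antisymm
      · rw [zpowers_le]; exact ⟨y, rfl⟩
      · intro a ha
        obtain ⟨k, hk⟩ := hy ⟨a, ha⟩
        exact ⟨k, congrArg Subtype.val hk⟩
    rw [h1]
  have hmem : (y : G) * x * (y : G)⁻¹ ∈ zpowers x := (mem_normalizer_iff.1 y.2 x).1 (mem_zpowers x)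
  obtain ⟨j, hj⟩ : ∃ j : ℕ, x ^ j = (y : G) * x * (y : G)⁻¹ := by
    have h1 : (y : G) * x * (y : G)⁻¹ ∈ Submonoid.powers x := mem_powers_iff_mem_zpowers.2 hmem
    exact h1
  refine ⟨y, j, hj.symm, ?_⟩
  have hord : orderOf (j : ZMod p) = orderOf (f y) := by
    rw [orderOf_eq_orderOf_iff]
    intro n
    have h1 : (f y) ^ n = 1 ↔ x ^ j ^ n = x := by
      rw [← map_pow, ← conj_pow_iter hj.symm n]
      constructor
      · intro h
        have h2 := congrArg (fun a : MulAut (zpowers x) => ((a ⟨x, mem_zpowers x⟩ : zpowers x) : G)) h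
        exact h2
      · intro h
        refine MulEquiv.ext fun a => ?_
        obtain ⟨a, k, rfl⟩ := a
        apply Subtype.ext
        change ((y ^ n : N) : G) * (x ^ k) * ((y ^ n : N) : G)⁻¹ = x ^ k
        rw [← conj_zpow]
        congr 1
    rw [h1]
    have h2 : x ^ j ^ n = x ↔ x ^ j ^ n = x ^ 1 := by rw [pow_one]
    rw [h2, pow_inj_mod, hx]
    have h3 : ((j : ZMod p) ^ n = 1) ↔ ((j ^ n : ℕ) : ZMod p) = ((1 : ℕ) : ZMod p) := by push_cast; rfl
    rw [h3, ZMod.natCast_eq_natCast_iff]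
    rfl
  have hker : Nat.card f.ker = Nat.card (centralizer ({x} : Set G)) := by
    have h1 : f.ker = (centralizer ((zpowers x : Subgroup G) : Set G)).subgroupOf N := normalizerMonoidHom_ker _
    have h2 : centralizer ((zpowers x : Subgroup G) : Set G) = centralizer ({x} : Set G) := by
      apply le_antisymm
      · exact centralizer_le (by simp [mem_zpowers])
      · intro g hg
        rw [mem_centralizer_singleton_iff] at hg
        rintro _ ⟨k, rfl⟩
        exact ((show Commute g x from hg).zpow_right k).eq.symm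
    rw [h1, h2]
    refine Nat.card_congr (Subgroup.subgroupOfEquivOfLe ?_).toEquiv
    rw [← h2]
    exact Subgroup.centralizer_le_normalizer _
  rw [hord, hcard, ← hker]
  have h5 := f.ker.card_mul_index
  rw [Subgroup.index_ker] at h5
  exact h5.symm

end Cfsg.Agent.H448.FprExc
end

-- part: H448/FprExc/NC
section
prune_inst 0x10003504442200000018000242003c66a2000000004b800051400200078e3c0320010e2148601918811a82640030804811000109420000000a00020001180080002802028048b008000010001000000000000000000000000000000000041004000000000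
set_option linter.all false
open scoped Cfsg.Agent.FastGrp

/-!
# The normaliser of a subgroup of prime order without elements of order `p` in the centraliser

`nc_core` : if `x` of prime order `ℓ` commutes with no element of order `p` then a relation `y x y⁻¹ = x ^ j` gives
an element `w` of the Weyl group with eigenvalue `j` on the character lattice modulo `ℓ`.
`nc_totient` : the index of the centraliser in the normaliser is `m` with `φ(m) ≤ l`.
-/

set_option autoImplicit false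
set_option linter.unusedSectionVars false

namespace Cfsg.Agent.H448.FprExc

open CoxeterSystem Subgroup Cfsg Cfsg.Lie Cfsg.Lie.ChevalleyDatum
open Cfsg.Agent.ChevalleyStructure Cfsg.Agent.ChevalleyStructure.Elts Cfsg.Agent.ChevalleyStructure.CoxeterGeom
  Cfsg.Agent.ChevalleyStructure.CoxeterGeomTypes Cfsg.Agent.ChevalleyStructure.NPerm
open Cfsg.Agent.Tits.Roots Cfsg.Agent.Tits.Core Cfsg.Agent.Nodes.Reps Cfsg.Agent.Nodes.BNOf
  Cfsg.Agent.Nodes.RGDChev Cfsg.Agent.Nodes.Bruhat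
open Cfsg.Agent.KFacts.RgdField Cfsg.Agent.KFacts.RgdChevCoord Cfsg.Agent.BpExc Cfsg.Agent.BpExc.TorCent
  Cfsg.Agent.BpExc.TorChev Cfsg.Agent.BpExc.Tow Cfsg.Agent.BpExc.TowChev Cfsg.Agent.BpExc.Fr Cfsg.Agent.BpExc.Pair
  Cfsg.Agent.BpExc.LangFr
open Cfsg.Agent.H129.TorusChar
open Cfsg.Agent.H378.TorDual Cfsg.Agent.H378.TorChar Cfsg.Agent.H378.TorFin Cfsg.Agent.H378.LatRoot
  Cfsg.Agent.H378.LatCyc Cfsg.Agent.H378.Regular Cfsg.Agent.H378.RegTw Cfsg.Agent.H378.ExcAdj

universe u v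

variable {D : ChevalleyDatum} {l : ℕ} {M : CoxeterMatrix (Fin l)} (hp : IsType D l M) {k : Type u} [Field k]
  {W : Type*} [Group W] (cs : CoxeterSystem M W) [IsAlgClosed k] (hk : LocFin k) {p e : ℕ} [Fact p.Prime] [CharP k p]
  {σ : MulAut ↥(D.group k)} {g : (Fin l → ℤ) ≃+ (Fin l → ℤ)}
  {G0 : Type*} [Group G0] [Finite G0] {e0 : G0 →* ↥(D.group k)}

include hk in
/-- a power of a regular torus element conjugate to it -/
theorem exists_weyl [Finite W] (p : ℕ) [Fact p.Prime] [CharP k p] {t c : ↥(D.group k)} (ht : t ∈ TT D k)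
    (hreg : ∀ a, IsRoot cs hp.isCartan a → ch hp a t ≠ 1) {j : ℕ} (h : c * t * c⁻¹ = t ^ j) :
    ∃ w : W, tchar hp ⟨t, ht⟩ ∈ KerOf k (rep cs hp.isCartan w - (j : ℤ) • (1 : Module.End ℤ (Fin l → ℤ))) := by
  obtain ⟨m', hm', w, g, hg, hgs, hc'⟩ := exists_form' hp cs hk p (s := t ^ j) (t := t) (c := c⁻¹)
    ((TT D k).pow_mem ht j) ht (by rw [← h]; group)
  rw [MM_eq_bot hp cs hreg, Subgroup.mem_bot] at hm'
  rw [hm', one_mul] at hc'
  refine ⟨w, fun x => ?_⟩
  have h1 := cX_rp hp cs hk p hg ((TT D k).pow_mem ht j) x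
  have h2 : g * t ^ j * g⁻¹ = t := by rw [hgs]; group
  rw [h2] at h1
  have h3 : tchar hp ⟨t, ht⟩ (Multiplicative.ofAdd (rep cs hp.isCartan w x)) =
      tchar hp ⟨t, ht⟩ (Multiplicative.ofAdd x) ^ j := by
    refine Units.ext ?_
    rw [tchar_eq_cX, h1, ← tchar_eq_cX hp ((TT D k).pow_mem ht j), Units.val_pow_eq_pow_val]
    have h4 : (⟨t ^ j, (TT D k).pow_mem ht j⟩ : ↥(TT D k)) = ⟨t, ht⟩ ^ j := rfl
    rw [h4, map_pow, MonoidHom.pow_apply, Units.val_pow_eq_pow_val]
  show tchar hp ⟨t, ht⟩ (Multiplicative.ofAdd ((rep cs hp.isCartan w - (j : ℤ) • (1 : Module.End ℤ (Fin l → ℤ))) x)) = 1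
  rw [LinearMap.sub_apply, ofAdd_sub, map_div, h3, LinearMap.smul_apply, Module.End.one_apply, ofAdd_zsmul, map_zpow,
    zpow_natCast, div_self']

include hp cs hk in
/-- **The core.** -/
theorem nc_core' [Finite W] (hka : BpExc.TorAll.HAlg p k) (he : 0 < e) (hσ : IsFrob p e σ)
    (F : Fr cs hp.isCartan (TT D k) (XX D l k) σ g) (he0 : Function.Injective e0) (hfix : ∀ a, σ (e0 a) = e0 a)
    {x : G0} {ℓ : ℕ} (hℓ : ℓ.Prime) (hℓp : ℓ ≠ p) (hx : orderOf x = ℓ) :
    (∃ u : ↥(D.group k), σ u = u ∧ u * e0 x = e0 x * u ∧ orderOf u = p) ∨ ∀ (y : G0) (j : ℕ), y * x * y⁻¹ = x ^ j →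
      ∃ (w : W) (χ : Ch l k), χ ≠ 1 ∧ χ ^ ℓ = 1 ∧
        χ ∈ KerOf k (rep cs hp.isCartan w - (j : ℤ) • (1 : Module.End ℤ (Fin l → ℤ))) := by
  have hxℓ : x ^ ℓ = 1 := by rw [← hx]; exact pow_orderOf_eq_one x
  have hx1 : x ≠ 1 := by
    rintro rfl
    rw [orderOf_one] at hx
    exact hℓ.one_lt.ne hx
  rcases H448.FprCent.inv_or_regular hp cs hk hka he hσ F (hfix x) hℓ hℓp (by rw [← map_pow, hxℓ, map_one]) with
    ⟨u, hu, hc, ho⟩ | ⟨t, c, ht, hct, hreg⟩
  · exact Or.inl ⟨u, hu, hc, ho⟩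
  · right
    intro y j hy
    have htℓ : t ^ ℓ = 1 := by
      rw [← hct]
      have h1 := conj_pow (a := c⁻¹) (b := e0 x) (i := ℓ)
      rw [inv_inv] at h1
      rw [h1, ← map_pow, hxℓ, map_one]; group
    have ht1 : t ≠ 1 := by
      intro h1
      apply hx1
      apply he0
      have : e0 x = c * t * c⁻¹ := by rw [← hct]; group
      rw [this, h1, map_one]; group
    obtain ⟨w, hw⟩ := exists_weyl hp cs hk p (c := c⁻¹ * e0 y * c) ht hreg (j := j) (by
      have h1 : c⁻¹ * e0 y * c * t * (c⁻¹ * e0 y * c)⁻¹ = c⁻¹ * e0 (y * x * y⁻¹) * c := by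
        rw [← hct, map_mul, map_mul, map_inv]; group
      have h2 := conj_pow (a := c⁻¹) (b := e0 x) (i := j)
      rw [inv_inv] at h2
      rw [h1, hy, map_pow, ← hct, h2])
    refine ⟨w, _, ?_, tchar_pow_eq_one hp ht htℓ, hw⟩
    intro h1
    have h2 := tchar_injective hp (h1.trans (map_one (tchar hp)).symm)
    exact ht1 (congrArg Subtype.val h2)

/-- an eigenvalue of order `m` modulo `ℓ` gives a vector killed by `Φ_m` -/
theorem exists_vec {w : Module.End ℤ (Fin l → ℤ)} {N : ℕ} (hN : 0 < N) (hw : w ^ N = 1) {ℓ j m : ℕ} (hℓ : ℓ.Prime)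
    (hl : l + 1 < ℓ) (hj : orderOf (j : ZMod ℓ) = m) (hm : 0 < m) {χ : Ch l k} (hχ1 : χ ≠ 1) (hχℓ : χ ^ ℓ = 1)
    (hχ : χ ∈ KerOf k (w - (j : ℤ) • (1 : Module.End ℤ (Fin l → ℤ)))) :
    m.totient ≤ l ∧ (m.totient = l → Polynomial.aeval w (Polynomial.cyclotomic m ℤ) = 0) := by
  obtain ⟨n, hn, hwn, hℓn⟩ := order_coprime hN hw hℓ hl
  have hcyc := H378.RegFin.cyclotomic_dvd (q := j) hℓ hj hm
  have hℓm : ¬ ℓ ∣ m := by
    intro h1
    have h2 := H378.ExcNear.mod_of_od hℓ hj hm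
    have h3 := hℓ.two_le
    have h4 := Nat.le_of_dvd (by omega) (h1.trans h2)
    omega
  refine ⟨?_, fun hml => aeval_eq_zero_of_char hm hml hn hwn hℓ hℓn hℓm hcyc hχ hχ1 hχℓ⟩
  obtain ⟨Q, -, y, hy, hy1⟩ := H378.LatCodim.exists_ker hm hn hwn hℓ hℓn hℓm hcyc hχ hχ1 hχℓ
  refine H378.LatCodim.totient_le hm (fun h0 => hy1 ?_) hy
  rw [h0, ofAdd_zero, map_one]

/-- the index of the centraliser, from the core -/
theorem nc_of_core [Finite W] {x : G0} {ℓ : ℕ} [hℓ : Fact ℓ.Prime] (hx : orderOf x = ℓ) (hlℓ : l + 1 < ℓ)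
    (h : ∀ (y : G0) (j : ℕ), y * x * y⁻¹ = x ^ j → ∃ (w : W) (χ : Ch l k), χ ≠ 1 ∧ χ ^ ℓ = 1 ∧
        χ ∈ KerOf k (rep cs hp.isCartan w - (j : ℤ) • (1 : Module.End ℤ (Fin l → ℤ)))) :
    ∃ n, 0 < n ∧ Nat.card (normalizer ((zpowers x : Subgroup G0) : Set G0)) =
      Nat.card (centralizer ({x} : Set G0)) * n ∧ n ∣ ℓ - 1 ∧ n.totient ≤ l ∧
      (n.totient = l → ∃ w : W, Polynomial.aeval (rep cs hp.isCartan w) (Polynomial.cyclotomic n ℤ) = 0) := by
  obtain ⟨y, j, hyj, hcard⟩ := exists_gen hx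
  obtain ⟨w, χ, hχ1, hχℓ, hχ⟩ := h y j hyj
  have hj0 : (j : ZMod ℓ) ≠ 0 := by
    intro h0
    rw [CharP.cast_eq_zero_iff (ZMod ℓ) ℓ] at h0
    obtain ⟨i, rfl⟩ := h0
    have h1 : x ^ (ℓ * i) = 1 := by rw [pow_mul, ← hx, pow_orderOf_eq_one, one_pow]
    rw [h1] at hyj
    have h2 : x = 1 := by
      have : x = y⁻¹ * (y * x * y⁻¹) * y := by group
      rw [this, hyj]; group
    rw [h2, orderOf_one] at hx
    exact hℓ.out.one_lt.ne hx
  have hn : 0 < orderOf (j : ZMod ℓ) := by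
    apply orderOf_pos_iff.2
    exact isOfFinOrder_iff_pow_eq_one.2 ⟨ℓ - 1, by have := hℓ.out.two_le; omega, ZMod.pow_card_sub_one_eq_one hj0⟩
  obtain ⟨N, hN, hwN⟩ : ∃ N, 0 < N ∧ (rep cs hp.isCartan w) ^ N = 1 := by
    refine ⟨Nat.card W, Nat.card_pos, ?_⟩
    rw [← map_pow, pow_card_eq_one', map_one]
  obtain ⟨h1, h2⟩ := exists_vec hN hwN hℓ.out hlℓ rfl hn hχ1 hχℓ hχ
  exact ⟨_, hn, hcard, orderOf_dvd_of_pow_eq_one (ZMod.pow_card_sub_one_eq_one hj0), h1, fun h3 => ⟨w, h2 h3⟩⟩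

include hp cs hk in
/-- **The normaliser, `ℓ ∣ Φ_m(q)`, `φ(m) = l`.** -/
theorem nc_phi [Finite W] (hka : BpExc.TorAll.HAlg p k) (he : 0 < e) (hσ : IsFrob p e σ)
    (F : Fr cs hp.isCartan (TT D k) (XX D l k) σ g) (he0 : Function.Injective e0) (hfix : ∀ a, σ (e0 a) = e0 a)
    {x : G0} {ℓ : ℕ} [hℓ : Fact ℓ.Prime] (hℓp : ℓ ≠ p) (hx : orderOf x = ℓ) (hlℓ : l + 1 < ℓ) {m : ℕ} (hm : 0 < m)
    (hl : m.totient = l) (hℓm : ¬ ℓ ∣ m) (hq : (ℓ : ℤ) ∣ (Polynomial.cyclotomic m ℤ).eval ((p ^ e : ℕ) : ℤ)) :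
    ∃ n, 0 < n ∧ Nat.card (normalizer ((zpowers x : Subgroup G0) : Set G0)) =
      Nat.card (centralizer ({x} : Set G0)) * n ∧ n ∣ ℓ - 1 ∧ n.totient ≤ l ∧
      (n.totient = l → ∃ w : W, Polynomial.aeval (rep cs hp.isCartan w) (Polynomial.cyclotomic n ℤ) = 0) := by
  rcases nc_core' hp cs hk hka he hσ F he0 hfix hℓ.out hℓp hx with ⟨u, hu, hc, ho⟩ | h
  · exfalso
    have hℓW : ¬ ℓ ∣ Nat.card W := fun h => by
      have := H378.LatCodim.le_of_dvd_card cs hp.isCartan hℓ.out h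
      omega
    have hxℓ : x ^ ℓ = 1 := by rw [← hx]; exact pow_orderOf_eq_one x
    have hx1 : x ≠ 1 := by
      rintro rfl
      rw [orderOf_one] at hx
      exact hℓ.out.one_lt.ne hx
    obtain ⟨g', χ, hg', hE, -, h2⟩ := pair_core hp cs hk hka he hσ F (hfix x) hℓ.out hℓp
      (by rw [← map_pow, hxℓ, map_one]) (fun h => hx1 (he0 (h.trans (map_one _).symm))) hℓW
    obtain ⟨N, hN, hwN⟩ := exists_pow_one (cs := cs) (h := hp.isCartan) hg'
    obtain ⟨n, hn, hwn, hℓn⟩ := order_coprime hN hwN hℓ.out hlℓ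
    have hcyc := aeval_eq_zero_of_char hm hl hn hwn hℓ.out hℓn hℓm hq hE.1 hE.2.1 hE.2.2
    obtain ⟨φ, hφ⟩ := h2 fun a ha => ne_one_of_root' hg' hm hl hcyc hℓ.out hℓW hE ha
    have hdet : ((LinearMap.det (endo g' - ((p ^ e : ℕ) : ℤ) • (1 : Module.End ℤ (Fin l → ℤ))) : ℤ) : k) ≠ 0 := by
      refine det_ne_zero (endo_mul_symm g') ?_
      rw [Int.cast_natCast, Nat.cast_pow, CharP.cast_eq_zero, zero_pow he.ne']
    have h3 : orderOf (φ ⟨u, mem_fixC.2 ⟨hu, hc⟩⟩) = p := by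
      rw [orderOf_injective φ hφ, Subgroup.orderOf_mk, ho]
    have h4 := orderOf_dvd_natCard (φ ⟨u, mem_fixC.2 ⟨hu, hc⟩⟩)
    rw [h3, card_kerOf k hdet] at h4
    apply hdet
    have h5 : (p : ℤ) ∣ LinearMap.det (endo g' - ((p ^ e : ℕ) : ℤ) • (1 : Module.End ℤ (Fin l → ℤ))) :=
      Int.natCast_dvd.2 h4
    obtain ⟨z, hz⟩ := h5
    rw [hz, Int.cast_mul, Int.cast_natCast, CharP.cast_eq_zero, zero_mul]
  · exact nc_of_core hp cs hx hlℓ h

end Cfsg.Agent.H448.FprExc
end

-- part: H448/FprExc/NCRows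
section
prune_inst 0xd0007504752200000000001262003c66b2000000002b800171c00b020f8f7d0380420e204aa01b08914eb2a41036c04811000149421000002a00b600411a01a004af4262a248b000200016003802000000000000000000000000000000041004000000000
set_option linter.all false
open scoped Cfsg.Agent.FastGrp

/-!
# The index of the centraliser in the normaliser: regular tori of the exceptional groups
-/

set_option autoImplicit false
set_option linter.unusedSectionVars false

namespace Cfsg.Agent.H448.FprExc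

open CoxeterSystem Subgroup Cfsg Cfsg.Lie Cfsg.Lie.ChevalleyDatum
open Cfsg.Agent.ChevalleyStructure Cfsg.Agent.ChevalleyStructure.Elts Cfsg.Agent.ChevalleyStructure.CoxeterGeom
  Cfsg.Agent.ChevalleyStructure.CoxeterGeomTypes Cfsg.Agent.ChevalleyStructure.NPerm
open Cfsg.Agent.Tits.Roots Cfsg.Agent.Tits.Core Cfsg.Agent.Nodes Cfsg.Agent.Nodes.Reps Cfsg.Agent.Nodes.BNOf
  Cfsg.Agent.Nodes.RGDChev Cfsg.Agent.Nodes.Bruhat
open Cfsg.Agent.KFacts.RgdField Cfsg.Agent.KFacts.RgdChevCoord Cfsg.Agent.BpExc.TorCent Cfsg.Agent.BpExc.TorChev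
open Cfsg.Agent.BpExc.Tow Cfsg.Agent.BpExc.TowChev Cfsg.Agent.BpExc.FamExt Cfsg.Agent.BpExc.FamUntw
  Cfsg.Agent.BpExc.FamInst Cfsg.Agent.BpExc.LangFr Cfsg.Agent.BpExc.FamField
open Cfsg.Agent.GpExc.Field (glMap emb coe_emb glMap_xG emb_injective coe_glMap)
open Cfsg.Agent.H378 Cfsg.Agent.H378.TorDual Cfsg.Agent.H378.TorChar Cfsg.Agent.H378.TorFin Cfsg.Agent.H378.ExcAdj

universe u

/-- **Untwisted groups.** -/
theorem nc_untw {D : ChevalleyDatum} {l : ℕ} {M : CoxeterMatrix (Fin l)} (hp : IsType D l M) {F : Type u} [Field F]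
    [Finite F] {x : ↥(D.group F)} {ℓ m : ℕ} [hℓ : Fact ℓ.Prime] (hx : orderOf x = ℓ) (h : od (Nat.card F) ℓ = m)
    (hl : m.totient = l) (hlm : l < m) :
    ∃ n, 0 < n ∧ Nat.card (normalizer ((zpowers x : Subgroup ↥(D.group F)) : Set ↥(D.group F))) =
      Nat.card (centralizer ({x} : Set ↥(D.group F))) * n ∧ n ∣ ℓ - 1 ∧ n.totient ≤ l ∧
      (n.totient = l → ∃ w : M.Group,
        Polynomial.aeval (rep M.toCoxeterSystem hp.isCartan w) (Polynomial.cyclotomic n ℤ) = 0) := by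
  obtain ⟨k, _, _, f, r, _, _, n, hk, hka, hn0, hn⟩ := exists_closure F
  have := finite_W hp M.toCoxeterSystem
  have hm : 0 < m := by omega
  have hm1 := ExcNear.mod_of_od hℓ.out h hm
  have h2 := hℓ.out.two_le
  have h3 := Nat.le_of_dvd (by omega) hm1
  have hℓr : ℓ ≠ r := by
    rintro rfl
    exact RegFin.not_dvd_q hℓ.out h hm (hn ▸ dvd_pow_self _ hn0.ne')
  have hσ : BpExc.LangFr.IsFrob r n (phi D k r n) :=
    Cfsg.Agent.H666.SigFr.isFrob_fld fun a => frb_apply k r n a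
  have hFr := Cfsg.Agent.H666.SigFr.fr_fld hp M.toCoxeterSystem (frb k r n)
  exact nc_phi hp M.toCoxeterSystem hk hka hn0 hσ hFr (emb_injective hp.inList f) (phi_emb' hp f r hn) hℓr hx
    (by omega) hm hl (fun h1 => by have := Nat.le_of_dvd hm h1; omega)
    (by rw [← hn]; exact RegFin.cyclotomic_dvd hℓ.out h hm)

section D

variable {K : Type u} [Field K] [Fintype K] {q : ℕ} (hq : IsPrimePow q) (hK : Fintype.card K = q ^ 3)

include hq hK

/-- **`³D₄(q)`** -/
theorem nc_3D4 {x : ↥(twistedD4 K q)} {r : ℕ} [hr : Fact r.Prime] (hx : orderOf x = r) (h : od q r = 12) :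
    ∃ n, 0 < n ∧ Nat.card (normalizer ((zpowers x : Subgroup ↥(twistedD4 K q)) : Set ↥(twistedD4 K q))) =
      Nat.card (centralizer ({x} : Set ↥(twistedD4 K q))) * n ∧ n ∣ r - 1 ∧ n.totient ≤ 4 ∧
      (n.totient = 4 → ∃ w : coxeterD4.Group,
        Polynomial.aeval (rep coxeterD4.toCoxeterSystem RGDTwD4.hp.isCartan w) (Polynomial.cyclotomic n ℤ) = 0) := by
  have hfin := H493.PGD4T.finW
  obtain ⟨k, _, _, f, p, _, _, n, hk, hka, hn0, hn⟩ := TorFin.exists_closure K
  obtain ⟨p', e, hp', he, hqe'⟩ := id hq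
  have hpF : Fact p.Prime := inferInstance
  have hpp : p' = p := by
    have h1 : p' ∣ p ^ n := by
      rw [← hn, Nat.card_eq_fintype_card, hK, ← hqe']
      exact dvd_pow (dvd_pow_self p' he.ne') (by norm_num)
    exact (Nat.prime_dvd_prime_iff_eq hp'.nat_prime hpF.out).1 (hp'.nat_prime.dvd_of_dvd_pow h1)
  subst hpp
  have h1 := ExcNear.mod_of_od hr.out h (by norm_num)
  have h2 := hr.out.two_le
  have h13 : 13 ≤ r := by
    have := Nat.le_of_dvd (by omega) h1
    omega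
  have hqe : q = p' ^ e := hqe'.symm
  have hℓp : r ≠ p' := by
    rintro rfl
    exact RegFin.not_dvd_q hr.out h (by norm_num) (hqe ▸ dvd_pow_self _ he.ne')
  exact nc_phi RGDTwD4.hp coxeterD4.toCoxeterSystem hk hka he H129.TriD4.isFrob_tau
    (H129.TriD4.fr_tau coxeterD4.toCoxeterSystem) (e0 := H129.TriD4.embT f hq hK) (H129.TriD4.embT_injective f hq hK)
    (fun a => H129.TriD4.tau_embT f hqe hq hK a) hℓp hx (by omega) (m := 12) (by norm_num) (by decide)
    (fun h3 => by have := Nat.le_of_dvd (by norm_num) h3; omega)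
    (by rw [hqe']; exact RegFin.cyclotomic_dvd hr.out h (by norm_num))

end D

section E

variable {K : Type u} [Field K] [Fintype K] {q : ℕ} (hq : IsPrimePow q) (hK : Fintype.card K = q ^ 2)

include hq hK

/-- **`²E₆(q)`** -/
theorem nc_2E6 {x : ↥(twistedE6 K q)} {r : ℕ} [hr : Fact r.Prime] (hx : orderOf x = r) (h : od q r = 18) :
    ∃ n, 0 < n ∧ Nat.card (normalizer ((zpowers x : Subgroup ↥(twistedE6 K q)) : Set ↥(twistedE6 K q))) =
      Nat.card (centralizer ({x} : Set ↥(twistedE6 K q))) * n ∧ n ∣ r - 1 ∧ n.totient ≤ 6 := by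
  have hfin := H493.PGE6.finW
  obtain ⟨k, _, _, f, p, _, _, e, hk, hka, he, hqe⟩ := TwRows.exists_closure' hq hK
  have h1 := ExcNear.mod_of_od hr.out h (by norm_num)
  have h2 := hr.out.two_le
  have h19 : 19 ≤ r := by
    have := Nat.le_of_dvd (by omega) h1
    omega
  have hℓp : r ≠ p := by
    rintro rfl
    exact RegFin.not_dvd_q hr.out h (by norm_num) (hqe ▸ dvd_pow_self _ he.ne')
  obtain ⟨n, h3, h4, h5, h6, -⟩ := nc_phi RGDTwE6.hp CoxeterMatrix.E₆.toCoxeterSystem hk hka he H493.TwE6Alg.isFrob_tau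
    (H493.TwE6Alg.fr_tau CoxeterMatrix.E₆.toCoxeterSystem) (e0 := H493.TwE6Alg.embT f q)
    (H493.TwE6Alg.embT_injective f q)
    (fun a => H493.TwE6Alg.tau_embT f hqe hq hK a) hℓp hx (by omega) (m := 18) (by norm_num) (by decide)
    (fun h3 => by have := Nat.le_of_dvd (by norm_num) h3; omega)
    (by rw [← hqe]; exact RegFin.cyclotomic_dvd hr.out h (by norm_num))
  exact ⟨n, h3, h4, h5, h6⟩

end E

theorem bound_of_totient {n : ℕ} (hn : 0 < n) (h : n.totient ≤ 6) : n ≤ 72 := by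
  have h1 := Cfsg.Agent.H365.Zsig.le_two_mul_totient_sq hn
  have h2 : n.totient ^ 2 ≤ 6 ^ 2 := Nat.pow_le_pow_left h 2
  omega

/-- `φ(n) ≤ 6` implies `n ≤ 18` -/
theorem le_of_totient_six {n : ℕ} (hn : 0 < n) (h : n.totient ≤ 6) : n ≤ 18 := by
  have h1 := bound_of_totient hn h
  revert h
  have key : ∀ m < 73, m.totient ≤ 6 → m ≤ 18 := by decide +kernel
  exact key n (by omega)

/-- `φ(n) ≤ 3` -/
theorem mem_of_totient_three {n : ℕ} (hn : 0 < n) (h : n.totient ≤ 3) : n ∈ [1, 2, 3, 4, 6] := by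
  have h1 := bound_of_totient hn (h.trans (by norm_num))
  have key : ∀ m < 73, 0 < m → m.totient ≤ 3 → m ∈ [1, 2, 3, 4, 6] := by decide +kernel
  exact key n (by omega) hn h

/-- `φ(n) = 4` -/
theorem mem_of_totient_four {n : ℕ} (hn : 0 < n) (h : n.totient = 4) : n ∈ [5, 8, 10, 12] := by
  have h1 := bound_of_totient hn (h.trans_le (by norm_num))
  have key : ∀ m < 73, m.totient = 4 → m ∈ [5, 8, 10, 12] := by decide +kernel
  exact key n (by omega) h

end Cfsg.Agent.H448.FprExc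
end

-- part: H448/FprExc/TorB
section
prune_inst 0xd000450065220000000000100000202470000100006000012080090209096102800200000e801010004cb2801004000000000040400000000a003000000201200028020020740c08000000000004000000000000000000000000000000000004000000000
set_option linter.all false
open scoped Cfsg.Agent.FastGrp

-- part: H448/FprExc/Cyc
section
/-!
# Values of cyclotomic polynomials; small centralisers
-/

set_option autoImplicit false
open Subgroup MulAction Polynomial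

namespace Cfsg.Agent.H448.FprExc

open Cfsg.Agent.H409

/-- **Small centralisers**: the direct criterion. -/
theorem row_direct {G : Type*} [Group G] [Finite G] {p : ℕ} {x : G} (hx : orderOf x = p) {c i : ℕ}
    (hc : Nat.card (centralizer ({x} : Set G)) ≤ c) (hi : ∀ H : Subgroup G, H ≠ ⊤ → i ≤ H.index)
    (h : (p + 1) * c ≤ i) : FprRow (p + 1) 1 p G := by
  intro H hH
  refine ⟨x, ⟨1, by rw [hx, pow_one]⟩, ?_⟩
  refine Cfsg.Agent.H398.FPR.ratio_of_bound H hc (i := Nat.card H) ?_ ?_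
  · exact Nat.card_le_card_of_injective (fun y : {y : H // orderOf y = orderOf x} => y.1) Subtype.val_injective
  · rw [one_mul, ← H.card_mul_index, ← mul_assoc, mul_comm (Nat.card H)]
    exact Nat.mul_le_mul_right _ (h.trans (hi H hH))

/-- the value of the cyclotomic polynomial -/
theorem cyc_le {q m l : ℕ} (hq : 2 ≤ q) (hm : m.totient = l) :
    0 < ((Polynomial.cyclotomic m ℤ).eval ((q : ℕ) : ℤ)).natAbs ∧
      ((Polynomial.cyclotomic m ℤ).eval ((q : ℕ) : ℤ)).natAbs ≤ (q + 1) ^ l := by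
  have h1 : (1 : ℝ) < q := by exact_mod_cast hq
  have h2 := Polynomial.cyclotomic_eval_le_add_one_pow_totient h1 m
  rw [hm] at h2
  have h3 : (Polynomial.cyclotomic m ℝ).eval (q : ℝ) = (((Polynomial.cyclotomic m ℤ).eval ((q : ℕ) : ℤ) : ℤ) : ℝ) := by
    rw [← Polynomial.map_cyclotomic_int m ℝ]
    have := Polynomial.eval_intCast_map (Int.castRingHom ℝ) (Polynomial.cyclotomic m ℤ) ((q : ℕ) : ℤ)
    push_cast at this
    simpa using this
  have h4 := Polynomial.cyclotomic_pos' m h1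
  rw [h3] at h2 h4
  have h5 : 0 < (Polynomial.cyclotomic m ℤ).eval ((q : ℕ) : ℤ) := by exact_mod_cast h4
  have h6 : (Polynomial.cyclotomic m ℤ).eval ((q : ℕ) : ℤ) ≤ (((q + 1) ^ l : ℕ) : ℤ) := by
    push_cast
    exact_mod_cast h2
  refine ⟨Int.natAbs_pos.2 h5.ne', ?_⟩
  rw [← Int.ofNat_le, Int.natAbs_of_nonneg h5.le]
  exact h6

theorem eval_cyc3 (q : ℤ) : (cyclotomic 3 ℤ).eval q = q ^ 2 + q + 1 := by
  rw [cyclotomic_three]
  simp

theorem eval_cyc6 (q : ℤ) : (cyclotomic 6 ℤ).eval q = q ^ 2 - q + 1 := by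
  rw [cyclotomic_six]
  simp

theorem eval_cyc8 (q : ℤ) : (cyclotomic 8 ℤ).eval q = q ^ 4 + 1 := by
  have h := cyclotomic_expand_eq_cyclotomic Nat.prime_two (show 2 ∣ 4 by norm_num) ℤ
  have h' := cyclotomic_expand_eq_cyclotomic Nat.prime_two (show 2 ∣ 2 by norm_num) ℤ
  rw [show 4 * 2 = 8 from rfl] at h
  rw [show 2 * 2 = 4 from rfl, cyclotomic_two] at h'
  rw [← h, ← h', expand_eval, expand_eval]
  simp only [_root_.Polynomial.eval_add, _root_.Polynomial.eval_X, _root_.Polynomial.eval_one, _root_.add_left_inj]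
  ring

theorem eval_cyc12 (q : ℤ) : (cyclotomic 12 ℤ).eval q = q ^ 4 - q ^ 2 + 1 := by
  have h := cyclotomic_expand_eq_cyclotomic Nat.prime_two (show 2 ∣ 6 by norm_num) ℤ
  rw [show 6 * 2 = 12 from rfl, cyclotomic_six] at h
  rw [← h, expand_eval]
  simp only [_root_.Polynomial.eval_add, _root_.Polynomial.eval_sub, _root_.Polynomial.eval_pow, _root_.Polynomial.eval_X, _root_.Polynomial.eval_one, _root_.add_left_inj, _root_.sub_left_inj]
  ring

theorem nat8 (q : ℕ) : ((cyclotomic 8 ℤ).eval ((q : ℕ) : ℤ)).natAbs = q ^ 4 + 1 := by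
  rw [eval_cyc8, show ((q : ℕ) : ℤ) ^ 4 + 1 = ((q ^ 4 + 1 : ℕ) : ℤ) by push_cast; ring, Int.natAbs_natCast]

theorem pow_le' {q a b : ℕ} (ha : 0 < a) (h : a ≤ b) : q ^ a ≤ q ^ b := by
  rcases Nat.eq_zero_or_pos q with rfl | h1
  · rw [zero_pow ha.ne']
    exact Nat.zero_le _
  · exact Nat.pow_le_pow_right h1 h

theorem nat12 (q : ℕ) : ((cyclotomic 12 ℤ).eval ((q : ℕ) : ℤ)).natAbs + q ^ 2 = q ^ 4 + 1 := by
  have h1 : q ^ 2 ≤ q ^ 4 := pow_le' (by norm_num) (by norm_num)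
  rw [eval_cyc12, show ((q : ℕ) : ℤ) ^ 4 - q ^ 2 + 1 = ((q ^ 4 - q ^ 2 + 1 : ℕ) : ℤ) by push_cast [h1]; ring,
    Int.natAbs_natCast]
  omega

end Cfsg.Agent.H448.FprExc
end

-- part: H448/FprExc/Tor
section
/-!
# Fixed point ratios: tori of `E₇`, `E₆`, `²E₆`
-/

set_option autoImplicit false
open Subgroup MulAction

namespace Cfsg.Agent.H448.FprExc

open Cfsg.Lie Cfsg.Agent.H409 Cfsg.Agent.H129 Cfsg.Agent.H129.TorusTw Cfsg.Agent.Nodes.RGDChev

universe u

/-- **A torus containing the centralisers**: the direct criterion. -/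
theorem row_of_torus {G : Type*} [Group G] [Finite G] {p : ℕ} [hp : Fact p.Prime] {T : Subgroup G} {N d i : ℕ}
    (h1 : Nat.card ↥T ∣ N) (h2 : N ∣ d * Nat.card ↥T) (hpN : p ∣ N) (hpd : ¬ p ∣ d) (hN : 0 < N)
    (hcent : ∀ y ∈ T, orderOf y = p → Subgroup.centralizer {y} ≤ T) (hi : ∀ H : Subgroup G, H ≠ ⊤ → i ≤ H.index)
    (h : (p + 1) * N ≤ i) : FprRow (p + 1) 1 p G := by
  have h3 : p ∣ Nat.card ↥T := (hp.out.dvd_mul.1 (hpN.trans h2)).resolve_left hpd
  obtain ⟨y, hy⟩ := exists_prime_orderOf_dvd_card' p h3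
  have hy' : orderOf (y : G) = p := by rw [← hy]; exact Subgroup.orderOf_coe y
  refine row_direct hy' ((Nat.card_le_card_of_injective _ (Subgroup.inclusion_injective (hcent _ y.2 hy'))).trans
    (Nat.le_of_dvd hN h1)) hi h

theorem not_dvd_int {p : ℕ} {m : ℕ} (hm : 0 < m) (h : m < p) : ¬ (p : ℤ) ∣ (m : ℤ) := by
  intro h1
  have := Nat.le_of_dvd hm (Int.natCast_dvd_natCast.1 h1)
  omega

theorem le_of_ord {q p m : ℕ} (hp : p.Prime) (hm : 0 < m) (h : orderOf (q : ZMod p) = m) : m + 1 ≤ p := by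
  have h1 := Cfsg.Agent.H378.ExcNear.mod_of_od hp h hm
  have h2 := hp.two_le
  have h3 := Nat.le_of_dvd (by omega) h1
  omega

section Ord

variable {q p : ℕ} [hp : Fact p.Prime]

theorem half_eq {n : ℕ} (hn : 0 < n) (h : orderOf (q : ZMod p) = 2 * n) : ((q : ZMod p)) ^ n = -1 := by
  have h1 : ((q : ZMod p)) ^ (2 * n) = 1 := by rw [← h]; exact pow_orderOf_eq_one _
  have h2 : ((q : ZMod p) ^ n - 1) * ((q : ZMod p) ^ n + 1) = 0 := by
    rw [mul_comm 2 n, pow_mul] at h1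
    linear_combination h1
  rcases mul_eq_zero.1 h2 with h3 | h3
  · exfalso
    have h4 := orderOf_dvd_of_pow_eq_one (sub_eq_zero.1 h3)
    rw [h] at h4
    have := Nat.le_of_dvd hn h4
    omega
  · exact eq_neg_of_add_eq_zero_left h3

theorem dvd_14 {N : ℕ} (h : orderOf (q : ZMod p) = 14) (hN : (N : ℤ) = 1 - (q : ℤ) + (q : ℤ) ^ 2 - (q : ℤ) ^ 3 +
    (q : ℤ) ^ 4 - (q : ℤ) ^ 5 + (q : ℤ) ^ 6) : p ∣ N := by
  have h1 := half_eq (n := 7) (by norm_num) h
  have h2 : (q : ZMod p) + 1 ≠ 0 := by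
    intro h3
    have h4 : (q : ZMod p) ^ 2 = 1 := by rw [eq_neg_of_add_eq_zero_left h3]; ring
    have := orderOf_dvd_of_pow_eq_one h4
    rw [h] at this
    exact absurd (Nat.le_of_dvd (by norm_num) this) (by norm_num)
  rw [← CharP.cast_eq_zero_iff (ZMod p) p]
  have h3 := congrArg (fun z : ℤ => (z : ZMod p)) hN
  push_cast at h3
  have h4 : ((q : ZMod p) + 1) * (N : ZMod p) = 0 := by
    rw [h3]
    linear_combination h1
  exact (mul_eq_zero.1 h4).resolve_left h2

theorem dvd_18 {N : ℕ} (h : orderOf (q : ZMod p) = 18) (hN : (N : ℤ) = 1 - (q : ℤ) ^ 3 + (q : ℤ) ^ 6) : p ∣ N := by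
  have h1 := half_eq (n := 9) (by norm_num) h
  have h2 : (q : ZMod p) ^ 3 + 1 ≠ 0 := by
    intro h3
    have h4 : (q : ZMod p) ^ 6 = 1 := by
      rw [show 6 = 3 * 2 by norm_num, pow_mul, eq_neg_of_add_eq_zero_left h3]; ring
    have := orderOf_dvd_of_pow_eq_one h4
    rw [h] at this
    exact absurd (Nat.le_of_dvd (by norm_num) this) (by norm_num)
  rw [← CharP.cast_eq_zero_iff (ZMod p) p]
  have h3 := congrArg (fun z : ℤ => (z : ZMod p)) hN
  push_cast at h3
  have h4 : ((q : ZMod p) ^ 3 + 1) * (N : ZMod p) = 0 := by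
    rw [h3]
    linear_combination h1
  exact (mul_eq_zero.1 h4).resolve_left h2

theorem dvd_12 {N : ℕ} (h : orderOf (q : ZMod p) = 12) (hN : (N : ℤ) = 1 - (q : ℤ) ^ 2 + (q : ℤ) ^ 4) : p ∣ N := by
  have h1 := half_eq (n := 6) (by norm_num) h
  have h2 : (q : ZMod p) ^ 2 + 1 ≠ 0 := by
    intro h3
    have h4 : (q : ZMod p) ^ 4 = 1 := by
      rw [show 4 = 2 * 2 by norm_num, pow_mul, eq_neg_of_add_eq_zero_left h3]; ring
    have := orderOf_dvd_of_pow_eq_one h4
    rw [h] at this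
    exact absurd (Nat.le_of_dvd (by norm_num) this) (by norm_num)
  rw [← CharP.cast_eq_zero_iff (ZMod p) p]
  have h3 := congrArg (fun z : ℤ => (z : ZMod p)) hN
  push_cast at h3
  have h4 : ((q : ZMod p) ^ 2 + 1) * (N : ZMod p) = 0 := by
    rw [h3]
    linear_combination h1
  exact (mul_eq_zero.1 h4).resolve_left h2

end Ord

section E7

variable {F : Type u} [Field F] [Fintype F]

theorem typ7 : IsType chevE7 7 CoxeterMatrix.E₇ := by simp

theorem notW7 {r : ℕ} (hr : r.Prime) (h8 : 8 < r) : ¬ r ∣ Nat.card CoxeterMatrix.E₇.Group := fun h => by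
  have := finite_W typ7 CoxeterMatrix.E₇.toCoxeterSystem
  have := Cfsg.Agent.H378.LatCodim.le_of_dvd_card CoxeterMatrix.E₇.toCoxeterSystem typ7.isCartan hr h
  omega

theorem torus18 {q N : ℕ} (hF : Fintype.card F = q) (hN : (N : ℤ) = 1 - (q : ℤ) ^ 3 + (q : ℤ) ^ 6) {r : ℕ} (hr : r.Prime)
    (h7 : 8 < r) (hrN : r ∣ N) :
    ∃ T : Subgroup ↥(chevE7.group F), IsCyclic ↥T ∧ Nat.card ↥T ∣ (q + 1) * N ∧ (q + 1) * N ∣ 2 * Nat.card ↥T ∧
      ∀ y ∈ T, orderOf y = r → Subgroup.centralizer {y} ≤ T := by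
  have := finite_W typ7 CoxeterMatrix.E₇.toCoxeterSystem
  have hrq : (r : ℤ) ∣ 1 - (q : ℤ) ^ 3 + (q : ℤ) ^ 6 := by rw [← hN]; exact Int.natCast_dvd_natCast.2 hrN
  have hG : ∀ s, ¬ (r : ℤ) ∣ Gq DataE7h.B (q : ℤ) (DataE7h.R s) := by
    intro s hs
    rcases DataE7h.dvd_of_G hrq s hs with h1 | h1
    · exact not_dvd_int (m := 1) (by norm_num) (by omega) h1
    · exact not_dvd_int (m := 3) (by norm_num) (by omega) h1
  have hN' : (((q + 1) * N : ℕ) : ℤ) = 1 + (q : ℤ) - (q : ℤ) ^ 3 - (q : ℤ) ^ 4 + (q : ℤ) ^ 6 + (q : ℤ) ^ 7 := by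
    push_cast
    rw [hN]
    ring
  have hqN : q.Coprime ((q + 1) * N) := UntwData.coprime_of_eq (a := 1 - (q : ℤ) ^ 2 - (q : ℤ) ^ 3 + (q : ℤ) ^ 5 + (q : ℤ) ^ 6) (by rw [hN']; ring)
  obtain ⟨T, h1, h3, h4, h5, -⟩ := UntwT.untw_T typ7 CoxeterMatrix.E₇.toCoxeterSystem (by norm_num) hF
    TorusChar.invC_E7 (by norm_num) DataE7h.hA DataE7h.chainOK DataE7h.cycOK DataE7h.rootOK (N := (q + 1) * N)
    (by rw [DataE7h.fN_eq, hN']) hqN (d := 2) (Or.inl rfl)
  exact ⟨T, h1, h3, h4, h5 r hr (notW7 hr h7) hG⟩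

theorem torus14 {q N : ℕ} (hF : Fintype.card F = q) (hN : (N : ℤ) = 1 - (q : ℤ) + (q : ℤ) ^ 2 - (q : ℤ) ^ 3 + (q : ℤ) ^ 4 - (q : ℤ) ^ 5 + (q : ℤ) ^ 6) {r : ℕ} (hr : r.Prime)
    (h7 : 8 < r) (hrN : r ∣ N) :
    ∃ T : Subgroup ↥(chevE7.group F), IsCyclic ↥T ∧ Nat.card ↥T ∣ (q + 1) * N ∧ (q + 1) * N ∣ 2 * Nat.card ↥T ∧
      ∀ y ∈ T, orderOf y = r → Subgroup.centralizer {y} ≤ T := by
  have := finite_W typ7 CoxeterMatrix.E₇.toCoxeterSystem
  have hrq : (r : ℤ) ∣ 1 - (q : ℤ) + (q : ℤ) ^ 2 - (q : ℤ) ^ 3 + (q : ℤ) ^ 4 - (q : ℤ) ^ 5 + (q : ℤ) ^ 6 := by rw [← hN]; exact Int.natCast_dvd_natCast.2 hrN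
  have hG : ∀ s, ¬ (r : ℤ) ∣ Gq DataE7m.B (q : ℤ) (DataE7m.R s) := by
    intro s hs
    rcases DataE7m.dvd_of_G hrq s hs with h1 | h1 | h1
    · exact not_dvd_int (m := 1) (by norm_num) (by omega) h1
    · exact not_dvd_int (m := 2) (by norm_num) (by omega) h1
    · exact not_dvd_int (m := 7) (by norm_num) (by omega) h1
  have hN' : (((q + 1) * N : ℕ) : ℤ) = 1 + (q : ℤ) ^ 7 := by
    push_cast
    rw [hN]
    ring
  have hqN : q.Coprime ((q + 1) * N) := UntwData.coprime_of_eq (a := (q : ℤ) ^ 6) (by rw [hN']; ring)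
  obtain ⟨T, h1, h3, h4, h5, -⟩ := UntwT.untw_T typ7 CoxeterMatrix.E₇.toCoxeterSystem (by norm_num) hF
    TorusChar.invC_E7 (by norm_num) DataE7m.hA DataE7m.chainOK DataE7m.cycOK DataE7m.rootOK (N := (q + 1) * N)
    (by rw [DataE7m.fN_eq, hN']) hqN (d := 2) (Or.inl rfl)
  exact ⟨T, h1, h3, h4, h5 r hr (notW7 hr h7) hG⟩

/-- the numbers for `E₇` -/
theorem num_E7 {q p N : ℕ} (hq : 2 ≤ q) (hN : N ≤ q ^ 6) (hp : p ≤ N) : (p + 1) * ((q + 1) * N) ≤ 2 * q ^ 17 := by
  have h1 : 1 ≤ q ^ 6 := Nat.one_le_pow _ _ (by omega)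
  have h2 : 2 ^ 1 ≤ q ^ 4 := (Nat.pow_le_pow_left hq 1).trans (Nat.pow_le_pow_right (by omega) (by norm_num))
  calc (p + 1) * ((q + 1) * N) ≤ (2 * q ^ 6) * ((2 * q) * q ^ 6) :=
        Nat.mul_le_mul (by omega) (Nat.mul_le_mul (by omega) hN)
    _ = 2 * (2 ^ 1 * q ^ 13) := by ring
    _ ≤ 2 * (q ^ 4 * q ^ 13) := Nat.mul_le_mul_left _ (Nat.mul_le_mul_right _ h2)
    _ = 2 * q ^ 17 := by ring

/-- **`E₇(q)`, `q` of order 14 or 18.** -/
theorem row_E7 {p : ℕ} [hp : Fact p.Prime] (ho : orderOf (Fintype.card F : ZMod p) ∈ [14, 18]) :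
    FprRow (p + 1) 1 p ↥(chevE7.group F) := by
  have hs := (Cfsg.Agent.S1054.result (F := F) chevE7 (by simp)).1
  obtain ⟨q, hF⟩ : ∃ q, Fintype.card F = q := ⟨_, rfl⟩
  have hq2 : 2 ≤ q := by rw [← hF]; exact Fintype.one_lt_card
  rw [hF] at ho
  have hi : ∀ H : Subgroup ↥(chevE7.group F), H ≠ ⊤ → 2 * q ^ 17 ≤ H.index := fun H hH => by
    rw [← hF]; exact Cfsg.Agent.H934.HeisE7.two_mul_le hs H hH
  simp only [List.mem_cons, List.not_mem_nil, or_false] at ho
  obtain ⟨a, rfl⟩ : ∃ a, q = a + 2 := ⟨q - 2, by omega⟩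
  rcases ho with ho | ho
  · obtain ⟨N, hN⟩ : ∃ N : ℕ, (N : ℤ) = 1 - ((a + 2 : ℕ) : ℤ) + ((a + 2 : ℕ) : ℤ) ^ 2 - ((a + 2 : ℕ) : ℤ) ^ 3 +
        ((a + 2 : ℕ) : ℤ) ^ 4 - ((a + 2 : ℕ) : ℤ) ^ 5 + ((a + 2 : ℕ) : ℤ) ^ 6 :=
      ⟨1 + (a + 1) * (a + 2) + (a + 1) * (a + 2) ^ 3 + (a + 1) * (a + 2) ^ 5, by push_cast; ring⟩
    have hpN := dvd_14 ho hN
    have hp8 := le_of_ord hp.out (by norm_num) ho
    have hN1 : 0 < N ∧ N ≤ (a + 2) ^ 6 := by
      have : (N : ℤ) = ((1 + (a + 1) * (a + 2) + (a + 1) * (a + 2) ^ 3 + (a + 1) * (a + 2) ^ 5 : ℕ) : ℤ) := by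
        rw [hN]; push_cast; ring
      rw [Nat.cast_inj] at this
      rw [this]
      refine ⟨by (clear * -; positivity), ?_⟩
      have h1 : (a + 2) ^ 6 = (a + 1) * (a + 2) ^ 5 + (a + 2) ^ 5 := by ring
      have h2 : (a + 2) ^ 5 = (a + 1) * (a + 2) ^ 4 + (a + 2) ^ 4 := by ring
      have h3 : (a + 2) ^ 4 = (a + 1) * (a + 2) ^ 3 + (a + 2) ^ 3 := by ring
      have h4 : (a + 2) ^ 3 = (a + 1) * (a + 2) ^ 2 + (a + 2) ^ 2 := by ring
      have h5 : (a + 2) ^ 2 = (a + 1) * (a + 2) + (a + 2) := by ring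
      omega
    obtain ⟨T, -, h1, h2, h3⟩ := torus14 hF hN hp.out (by omega) hpN
    refine row_of_torus h1 h2 (hpN.mul_left _) (fun h => ?_) (Nat.mul_pos (by omega) hN1.1) h3 hi
      (num_E7 hq2 hN1.2 (Nat.le_of_dvd hN1.1 hpN))
    have := Nat.le_of_dvd (by norm_num) h
    omega
  · obtain ⟨N, hN⟩ : ∃ N : ℕ, (N : ℤ) = 1 - ((a + 2 : ℕ) : ℤ) ^ 3 + ((a + 2 : ℕ) : ℤ) ^ 6 :=
      ⟨1 + (a + 2) ^ 3 * (a * (a ^ 2 + 6 * a + 12) + 7), by push_cast; ring⟩
    have hpN := dvd_18 ho hN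
    have hp8 := le_of_ord hp.out (by norm_num) ho
    have hN1 : 0 < N ∧ N ≤ (a + 2) ^ 6 := by
      have h0 : (1 : ℤ) ≤ ((a + 2 : ℕ) : ℤ) ^ 3 := by
        have : 1 ≤ (a + 2) ^ 3 := Nat.one_le_pow _ _ (by omega)
        exact_mod_cast this
      have h1 : (N : ℤ) ≤ (((a + 2) ^ 6 : ℕ) : ℤ) := by rw [hN]; push_cast at h0 ⊢; linarith only [h0]
      have h2 : (0 : ℤ) < N := by
        rw [hN]
        nlinarith only [h0]
      exact ⟨by exact_mod_cast h2, by exact_mod_cast h1⟩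
    obtain ⟨T, -, h1, h2, h3⟩ := torus18 hF hN hp.out (by omega) hpN
    refine row_of_torus h1 h2 (hpN.mul_left _) (fun h => ?_) (Nat.mul_pos (by omega) hN1.1) h3 hi
      (num_E7 hq2 hN1.2 (Nat.le_of_dvd hN1.1 hpN))
    have := Nat.le_of_dvd (by norm_num) h
    omega

end E7

end Cfsg.Agent.H448.FprExc
end

-- part: H448/FprExc/TorB
section
/-!
# Fixed point ratios: the Coxeter tori of `E₆`, `²E₆`
-/

set_option autoImplicit false
open Subgroup MulAction

namespace Cfsg.Agent.H448.FprExc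

open Cfsg.Lie Cfsg.Agent.H409 Cfsg.Agent.H129 Cfsg.Agent.Nodes.RGDChev

universe u

section E6

open Cfsg.Agent.H129.TorusTw

variable {F : Type u} [Field F] [Fintype F]

theorem typ6 : IsType chevE6 6 CoxeterMatrix.E₆ := by simp

theorem notW6 {r : ℕ} (hr : r.Prime) (h8 : 8 < r) : ¬ r ∣ Nat.card CoxeterMatrix.E₆.Group := fun h => by
  have := finite_W typ6 CoxeterMatrix.E₆.toCoxeterSystem
  have := Cfsg.Agent.H378.LatCodim.le_of_dvd_card CoxeterMatrix.E₆.toCoxeterSystem typ6.isCartan hr h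
  omega

theorem torus12 {q N : ℕ} (hF : Fintype.card F = q) (hN : (N : ℤ) = 1 - (q : ℤ) ^ 2 + (q : ℤ) ^ 4) {r : ℕ} (hr : r.Prime)
    (h7 : 8 < r) (hrN : r ∣ N) :
    ∃ T : Subgroup ↥(chevE6.group F), IsCyclic ↥T ∧ Nat.card ↥T ∣ (q ^ 2 + q + 1) * N ∧ (q ^ 2 + q + 1) * N ∣ 3 * Nat.card ↥T ∧
      ∀ y ∈ T, orderOf y = r → Subgroup.centralizer {y} ≤ T := by
  have := finite_W typ6 CoxeterMatrix.E₆.toCoxeterSystem
  have hrq : (r : ℤ) ∣ 1 - (q : ℤ) ^ 2 + (q : ℤ) ^ 4 := by rw [← hN]; exact Int.natCast_dvd_natCast.2 hrN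
  have hG : ∀ s, ¬ (r : ℤ) ∣ Gq DataE6.B (q : ℤ) (DataE6.R s) := by
    intro s hs
    rcases DataE6.dvd_of_G hrq s hs with h1 | h1
    · exact not_dvd_int (m := 1) (by norm_num) (by omega) h1
    · exact not_dvd_int (m := 2) (by norm_num) (by omega) h1
  have hN' : (((q ^ 2 + q + 1) * N : ℕ) : ℤ) = 1 + (q : ℤ) - (q : ℤ) ^ 3 + (q : ℤ) ^ 5 + (q : ℤ) ^ 6 := by
    push_cast
    rw [hN]
    ring
  have hqN : q.Coprime ((q ^ 2 + q + 1) * N) := UntwData.coprime_of_eq (a := 1 - (q : ℤ) ^ 2 + (q : ℤ) ^ 4 + (q : ℤ) ^ 5) (by rw [hN']; ring)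
  obtain ⟨T, h1, h3, h4, h5, -⟩ := UntwT.untw_T typ6 CoxeterMatrix.E₆.toCoxeterSystem (by norm_num) hF
    TorusChar.invC_E6 (by norm_num) DataE6.hA DataE6.chainOK DataE6.cycOK DataE6.rootOK (N := (q ^ 2 + q + 1) * N)
    (by rw [DataE6.fN_eq, hN']) hqN (d := 3) (Or.inl rfl)
  exact ⟨T, h1, h3, h4, h5 r hr (notW6 hr h7) hG⟩

/-- the value of `Φ₁₂` -/
theorem exists_N12 {q : ℕ} (hq : 2 ≤ q) : ∃ N : ℕ, (N : ℤ) = 1 - (q : ℤ) ^ 2 + (q : ℤ) ^ 4 ∧ 0 < N ∧
    N + q ^ 2 = q ^ 4 + 1 := by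
  obtain ⟨a, rfl⟩ : ∃ a, q = a + 2 := ⟨q - 2, by omega⟩
  refine ⟨1 + (a + 2) ^ 2 * ((a + 1) * (a + 3)), by push_cast; ring, by positivity, by ring⟩

/-- **`E₆(q)`, `q` of order 12.** -/
theorem row_E6_twelve {p : ℕ} [hp : Fact p.Prime] (ho : orderOf (Fintype.card F : ZMod p) = 12) :
    FprRow (p + 1) 1 p ↥(chevE6.group F) := by
  have hs := (Cfsg.Agent.S1054.result (F := F) chevE6 (by simp)).1
  obtain ⟨q, hF⟩ : ∃ q, Fintype.card F = q := ⟨_, rfl⟩
  have hq2 : 2 ≤ q := by rw [← hF]; exact Fintype.one_lt_card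
  rw [hF] at ho
  have hi : ∀ H : Subgroup ↥(chevE6.group F), H ≠ ⊤ → 2 * q ^ 11 ≤ H.index := fun H hH => by
    rw [← hF]; exact Cfsg.Agent.H934.HeisE6.two_mul_le hs H hH
  obtain ⟨N, hN, hN0, hN1⟩ := exists_N12 hq2
  have hpN := dvd_12 ho hN
  have hp8 := le_of_ord hp.out (by norm_num) ho
  obtain ⟨T, -, h1, h2, h3⟩ := torus12 hF hN hp.out (by omega) hpN
  have h4 : 2 ^ 2 ≤ q ^ 2 := Nat.pow_le_pow_left hq2 2
  refine row_of_torus h1 h2 (hpN.mul_left _) (fun h => ?_) (Nat.mul_pos (by omega) hN0) h3 hi ?_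
  · have := Nat.le_of_dvd (by norm_num) h
    omega
  · have h5 := Nat.le_of_dvd hN0 hpN
    have h6 : q ^ 2 + q + 1 ≤ 2 * q ^ 2 := by nlinarith only [hN, hp8, h5]
    calc (p + 1) * ((q ^ 2 + q + 1) * N) ≤ (q ^ 4) * ((2 * q ^ 2) * q ^ 4) :=
          Nat.mul_le_mul (by omega) (Nat.mul_le_mul h6 (by omega))
      _ = 2 * q ^ 10 := by ring
      _ ≤ 2 * q ^ 11 := Nat.mul_le_mul_left _ (Nat.pow_le_pow_right (by omega) (by norm_num))

end E6

section TE6

variable {K : Type u} [Field K] [Fintype K] {q : ℕ}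

theorem torusT12 (hq : IsPrimePow q) (hK : Fintype.card K = q ^ 2) {N : ℕ}
    (hN : (N : ℤ) = 1 - (q : ℤ) ^ 2 + (q : ℤ) ^ 4) {r : ℕ} (hr : r.Prime) (h7 : 8 < r) (hrN : r ∣ N) {M : ℕ}
    (hM : M = (q ^ 2 + 1 - q) * N) :
    ∃ T : Subgroup ↥(twistedE6 K q), IsCyclic ↥T ∧ Nat.card ↥T ∣ M ∧ M ∣ Nat.gcd 3 (q + 1) * Nat.card ↥T ∧
      ∀ y ∈ T, orderOf y = r → Subgroup.centralizer {y} ≤ T := by
  have hrq : (r : ℤ) ∣ 1 - (q : ℤ) ^ 2 + (q : ℤ) ^ 4 := by rw [← hN]; exact Int.natCast_dvd_natCast.2 hrN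
  have hG : ∀ s, ¬ (r : ℤ) ∣ H129.TorusTw.Gq H129.DataTE6c.B (q : ℤ) (H129.DataTE6c.R s) := by
    intro s hs
    rcases H129.DataTE6c.dvd_of_G hrq s hs with h1 | h1
    · exact not_dvd_int (m := 1) (by norm_num) (by omega) h1
    · exact not_dvd_int (m := 2) (by norm_num) (by omega) h1
  have h0 : q ≤ q ^ 2 + 1 := by nlinarith only []
  have hM' : (M : ℤ) = 1 - (q : ℤ) + (q : ℤ) ^ 3 - (q : ℤ) ^ 5 + (q : ℤ) ^ 6 := by
    rw [hM]
    push_cast [h0]
    rw [hN]
    ring
  have hqN : q.Coprime M :=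
    H129.UntwData.coprime_of_eq (a := -1 + (q : ℤ) ^ 2 - (q : ℤ) ^ 4 + (q : ℤ) ^ 5) (by rw [hM']; ring)
  obtain ⟨T, h1, h3, h4, h5, -⟩ := H129.TwT.flip_T hq hK H129.DataTE6c.hA H129.DataTE6c.chainOK H129.DataTE6c.hd_pi
    H129.DataTE6c.cycOK H129.DataTE6c.rootOK H129.DataTE6c.chain2OK H129.DataTE6c.hd2_eq (N := M)
    (by rw [H129.DataTE6c.fN_eq, hM']) hqN
  exact ⟨T, h1, h3, h4, h5 r hr (notW6 hr h7) hG⟩

/-- **`²E₆(q)`, `q` of order 12.** -/
theorem row_2E6_twelve (hq : IsPrimePow q) (hK : Fintype.card K = q ^ 2) {p : ℕ} [hp : Fact p.Prime]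
    (ho : orderOf (q : ZMod p) = 12) : FprRow (p + 1) 1 p ↥(twistedE6 K q) := by
  have hs := (Cfsg.Agent.S1070.result hq hK).1
  have hq2 : 2 ≤ q := hq.two_le
  have hi : ∀ H : Subgroup ↥(twistedE6 K q), H ≠ ⊤ → q ^ 11 ≤ H.index := fun H hH => by
    have h5 := Cfsg.Agent.H934.HeisTwE6.bound_2E6 hq hK hs H hH
    rw [show q ^ 22 = (q ^ 11) ^ 2 by ring] at h5
    exact (Nat.pow_le_pow_iff_left (by norm_num)).1 h5
  obtain ⟨N, hN, hN0, hN1⟩ := exists_N12 hq2
  have hpN := dvd_12 ho hN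
  have hp8 := le_of_ord hp.out (by norm_num) ho
  obtain ⟨T, -, h1, h2, h3⟩ := torusT12 hq hK hN hp.out (by omega) hpN rfl
  have h4 : 2 ^ 2 ≤ q ^ 2 := Nat.pow_le_pow_left hq2 2
  have h0 : 0 < q ^ 2 + 1 - q := by
    have : q < q ^ 2 + 1 := by nlinarith only []
    omega
  refine row_of_torus h1 h2 (hpN.mul_left _) (fun h => ?_) (Nat.mul_pos h0 hN0) h3 hi ?_
  · have := Nat.le_of_dvd (by norm_num) (h.trans (Nat.gcd_dvd_left 3 (q + 1)))
    omega
  · have h5 := Nat.le_of_dvd hN0 hpN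
    calc (p + 1) * ((q ^ 2 + 1 - q) * N) ≤ (q ^ 4) * (q ^ 2 * q ^ 4) :=
          Nat.mul_le_mul (by omega) (Nat.mul_le_mul (by omega) (by omega))
      _ = q ^ 10 := by ring
      _ ≤ q ^ 11 := Nat.pow_le_pow_right (by omega) (by norm_num)

end TE6

end Cfsg.Agent.H448.FprExc
end
end

-- part: H448/FprExc/RowCyc
section
prune_inst 0xd0005500252200000000001240002024700000000060800160c00b020b016102800208000a801018004ea2801004000811000040420000000a0004000000012000a84200a2480108000016000000000000000000000000000000000000000004000000000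
set_option linter.all false
open scoped Cfsg.Agent.FastGrp

/-!
# Fixed point ratios: cyclic tori and the normaliser; `E₆` (9), `²E₆` (18)
-/

set_option autoImplicit false
open Subgroup MulAction

namespace Cfsg.Agent.H448.FprExc

open Cfsg.Lie Cfsg.Agent.H409 Cfsg.Agent.H129 Cfsg.Agent.Nodes.RGDChev Cfsg.Agent.H378.ExcAdj

universe u

section Grp

variable {G : Type*} [Group G] [Finite G] {p : ℕ} [hp : Fact p.Prime]

/-- the Sylow subgroups are cyclic -/
theorem cyclic_sylow {T : Subgroup G} (hT : IsCyclic ↥T) {y : G} (hyT : y ∈ T) (hy : orderOf y = p)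
    (hcent : ∀ z ∈ T, orderOf z = p → Subgroup.centralizer {z} ≤ T) : ∀ P : Sylow p G, IsCyclic P := by
  have hpy : IsPGroup p (zpowers y) := IsPGroup.of_card (n := 1) (by rw [Nat.card_zpowers, hy, pow_one])
  obtain ⟨Q, hQ⟩ := hpy.exists_le_sylow
  have hyQ : y ∈ (Q : Subgroup G) := hQ (mem_zpowers y)
  have hQc : IsCyclic Q := by
    have hnt : Nontrivial Q := ⟨⟨⟨y, hyQ⟩, 1, fun h => by
      have h1 : y = 1 := congrArg Subtype.val h
      rw [h1, orderOf_one] at hy
      exact hp.out.one_lt.ne hy⟩⟩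
    have hc := Q.isPGroup'.center_nontrivial
    have hd : p ∣ Nat.card (center Q) := by
      have h1 : IsPGroup p (center Q) := Q.isPGroup'.to_subgroup _
      obtain ⟨n, hn⟩ := h1.exists_card_eq
      have h2 := Finite.one_lt_card (α := center Q)
      rw [hn] at h2 ⊢
      rcases n with _ | n
      · simp at h2
      · exact dvd_pow_self p (Nat.succ_ne_zero n)
    obtain ⟨z, hz⟩ := exists_prime_orderOf_dvd_card' p hd
    have hz' : orderOf ((z : Q) : G) = p := by rw [Subgroup.orderOf_coe, Subgroup.orderOf_coe, hz]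
    have hzc : ∀ a ∈ (Q : Subgroup G), ((z : Q) : G) * a = a * ((z : Q) : G) := fun a ha =>
      congrArg Subtype.val ((mem_center_iff.1 z.2 ⟨a, ha⟩).symm)
    have hzT : ((z : Q) : G) ∈ T :=
      hcent y hyT hy (mem_centralizer_singleton_iff.2 (hzc y hyQ))
    have hQT : (Q : Subgroup G) ≤ T := fun a ha =>
      hcent _ hzT hz' (mem_centralizer_singleton_iff.2 (hzc a ha).symm)
    exact isCyclic_of_injective (Subgroup.inclusion hQT) (Subgroup.inclusion_injective hQT)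
  intro P
  exact isCyclic_of_surjective _ (Sylow.equiv Q P).surjective

/-- **A cyclic torus and a bound for `N/C`.** -/
theorem row_of_nc {T : Subgroup G} (hT : IsCyclic ↥T) {N d i B : ℕ} (h1 : Nat.card ↥T ∣ N)
    (h2 : N ∣ d * Nat.card ↥T) (hpN : p ∣ N) (hpd : ¬ p ∣ d) (hN : 0 < N)
    (hcent : ∀ y ∈ T, orderOf y = p → Subgroup.centralizer {y} ≤ T)
    (hnc : ∀ x : G, orderOf x = p → Nat.card (normalizer ((zpowers x : Subgroup G) : Set G)) ≤
      Nat.card (centralizer ({x} : Set G)) * B)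
    (hi : ∀ H : Subgroup G, H ≠ ⊤ → i ≤ H.index) (h : (p + 1) * (N * B) ≤ p * i) : FprRow (p + 1) 1 p G := by
  have h3 : p ∣ Nat.card ↥T := (hp.out.dvd_mul.1 (hpN.trans h2)).resolve_left hpd
  obtain ⟨y, hy⟩ := exists_prime_orderOf_dvd_card' p h3
  have hy' : orderOf (y : G) = p := by rw [← hy]; exact Subgroup.orderOf_coe y
  have hC : Nat.card (centralizer ({(y : G)} : Set G)) ≤ N :=
    (Nat.card_le_card_of_injective _ (Subgroup.inclusion_injective (hcent _ y.2 hy'))).trans (Nat.le_of_dvd hN h1)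
  refine Cfsg.Agent.H452.FprCyc.row_cyclic (cyclic_sylow hT y.2 hy' hcent) hy' (N := N * B)
    ((hnc _ hy').trans (Nat.mul_le_mul_right _ hC)) fun H hH _ => ?_
  exact h.trans (Nat.mul_le_mul_left _ (hi H hH))

end Grp

theorem dvd_9 {q p : ℕ} [hp : Fact p.Prime] {N : ℕ} (h : orderOf (q : ZMod p) = 9)
    (hN : (N : ℤ) = 1 + (q : ℤ) ^ 3 + (q : ℤ) ^ 6) : p ∣ N := by
  have h1 : (q : ZMod p) ^ 9 = 1 := by rw [← h]; exact pow_orderOf_eq_one _
  have h2 : (q : ZMod p) ^ 3 - 1 ≠ 0 := by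
    intro h3
    have := orderOf_dvd_of_pow_eq_one (sub_eq_zero.1 h3)
    rw [h] at this
    exact absurd (Nat.le_of_dvd (by norm_num) this) (by norm_num)
  rw [← CharP.cast_eq_zero_iff (ZMod p) p]
  have h3 := congrArg (fun z : ℤ => (z : ZMod p)) hN
  push_cast at h3
  have h4 : ((q : ZMod p) ^ 3 - 1) * (N : ZMod p) = 0 := by
    rw [h3]
    linear_combination h1
  exact (mul_eq_zero.1 h4).resolve_left h2

section E6

open Cfsg.Agent.H129.TorusTw

variable {F : Type u} [Field F] [Fintype F]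

theorem torus9 {q N : ℕ} (hF : Fintype.card F = q) (hN : (N : ℤ) = 1 + (q : ℤ) ^ 3 + (q : ℤ) ^ 6) {r : ℕ} (hr : r.Prime)
    (h7 : 8 < r) (hrN : r ∣ N) :
    ∃ T : Subgroup ↥(chevE6.group F), IsCyclic ↥T ∧ Nat.card ↥T ∣ N ∧ N ∣ 3 * Nat.card ↥T ∧
      ∀ y ∈ T, orderOf y = r → Subgroup.centralizer {y} ≤ T := by
  have := finite_W typ6 CoxeterMatrix.E₆.toCoxeterSystem
  have hrq : (r : ℤ) ∣ 1 + (q : ℤ) ^ 3 + (q : ℤ) ^ 6 := by rw [← hN]; exact Int.natCast_dvd_natCast.2 hrN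
  have hG : ∀ s, ¬ (r : ℤ) ∣ Gq DataE6n.B (q : ℤ) (DataE6n.R s) := by
    intro s hs
    rcases DataE6n.dvd_of_G hrq s hs with h1 | h1
    · exact not_dvd_int (m := 1) (by norm_num) (by omega) h1
    · exact not_dvd_int (m := 3) (by norm_num) (by omega) h1
  have hqN : q.Coprime N := UntwData.coprime_of_eq (a := (q : ℤ) ^ 2 + (q : ℤ) ^ 5) (by rw [hN]; ring)
  obtain ⟨T, h1, h3, h4, h5, -⟩ := UntwT.untw_T typ6 CoxeterMatrix.E₆.toCoxeterSystem (by norm_num) hF
    TorusChar.invC_E6 (by norm_num) DataE6n.hA DataE6n.chainOK DataE6n.cycOK DataE6n.rootOK (N := N)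
    (by rw [DataE6n.fN_eq, hN]) hqN (d := 3) (Or.inl rfl)
  exact ⟨T, h1, h3, h4, h5 r hr (notW6 hr h7) hG⟩

/-- **`E₆(q)`, `q` of order 9.** -/
theorem row_E6_nine {p : ℕ} [hp : Fact p.Prime] (ho : orderOf (Fintype.card F : ZMod p) = 9) :
    FprRow (p + 1) 1 p ↥(chevE6.group F) := by
  have hs := (Cfsg.Agent.S1054.result (F := F) chevE6 (by simp)).1
  obtain ⟨q, hF⟩ : ∃ q, Fintype.card F = q := ⟨_, rfl⟩
  have hq2 : 2 ≤ q := by rw [← hF]; exact Fintype.one_lt_card
  have ho' : od (Nat.card F) p = 9 := by rw [Nat.card_eq_fintype_card]; exact ho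
  rw [hF] at ho
  have hi : ∀ H : Subgroup ↥(chevE6.group F), H ≠ ⊤ → 2 * q ^ 11 ≤ H.index := fun H hH => by
    rw [← hF]; exact Cfsg.Agent.H934.HeisE6.two_mul_le hs H hH
  have hp8 := le_of_ord hp.out (by norm_num) ho
  have hN : ((q ^ 6 + q ^ 3 + 1 : ℕ) : ℤ) = 1 + (q : ℤ) ^ 3 + (q : ℤ) ^ 6 := by push_cast; ring
  have hpN := dvd_9 ho hN
  obtain ⟨T, hT, h1, h2, h3⟩ := torus9 hF hN hp.out (by omega) hpN
  refine row_of_nc hT h1 h2 hpN (fun h => ?_) (by positivity) h3 (B := 18) (fun x hx => ?_) hi ?_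
  · have := Nat.le_of_dvd (by norm_num) h
    omega
  · obtain ⟨n, hn, h4, -, h5, -⟩ := nc_untw typ6 hx ho' (by decide) (by norm_num)
    rw [h4]
    exact Nat.mul_le_mul_left _ (le_of_totient_six hn h5)
  · have h4 : 2 ^ 3 ≤ q ^ 3 := Nat.pow_le_pow_left hq2 3
    have h5 : 2 ^ 5 ≤ q ^ 5 := Nat.pow_le_pow_left hq2 5
    have h6 : q ^ 6 + q ^ 3 + 1 ≤ 2 * q ^ 6 := by
      have : q ^ 6 = q ^ 3 * q ^ 3 := by ring
      nlinarith only [h4]
    have h7 : q ^ 6 * 32 ≤ q ^ 11 := by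
      calc q ^ 6 * 32 ≤ q ^ 6 * q ^ 5 := Nat.mul_le_mul_left _ h5
        _ = q ^ 11 := by ring
    have h8 : (p + 1) * 9 ≤ p * 10 := by omega
    -- `(p + 1) * 18 * N ≤ 20 p N ≤ 40 p q ^ 6`
    calc (p + 1) * ((q ^ 6 + q ^ 3 + 1) * 18) = ((p + 1) * 9) * (2 * (q ^ 6 + q ^ 3 + 1)) := by ring
      _ ≤ (p * 10) * (2 * (2 * q ^ 6)) := Nat.mul_le_mul h8 (Nat.mul_le_mul_left _ h6)
      _ = p * (40 * q ^ 6) := by ring
      _ ≤ p * (2 * q ^ 11) := Nat.mul_le_mul_left _ (by omega)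

end E6

section TE6

variable {K : Type u} [Field K] [Fintype K] {q : ℕ}

theorem torusT18 (hq : IsPrimePow q) (hK : Fintype.card K = q ^ 2) {N : ℕ}
    (hN : (N : ℤ) = 1 - (q : ℤ) ^ 3 + (q : ℤ) ^ 6) {r : ℕ} (hr : r.Prime) (h7 : 8 < r) (hrN : r ∣ N) :
    ∃ T : Subgroup ↥(twistedE6 K q), IsCyclic ↥T ∧ Nat.card ↥T ∣ N ∧ N ∣ Nat.gcd 3 (q + 1) * Nat.card ↥T ∧
      ∀ y ∈ T, orderOf y = r → Subgroup.centralizer {y} ≤ T := by
  have hrq : (r : ℤ) ∣ 1 - (q : ℤ) ^ 3 + (q : ℤ) ^ 6 := by rw [← hN]; exact Int.natCast_dvd_natCast.2 hrN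
  have hG : ∀ s, ¬ (r : ℤ) ∣ H129.TorusTw.Gq H129.DataTE6n.B (q : ℤ) (H129.DataTE6n.R s) := by
    intro s hs
    rcases H129.DataTE6n.dvd_of_G hrq s hs with h1 | h1
    · exact not_dvd_int (m := 1) (by norm_num) (by omega) h1
    · exact not_dvd_int (m := 3) (by norm_num) (by omega) h1
  have hqN : q.Coprime N := H129.UntwData.coprime_of_eq (a := -(q : ℤ) ^ 2 + (q : ℤ) ^ 5) (by rw [hN]; ring)
  obtain ⟨T, h1, h3, h4, h5, -⟩ := H129.TwT.flip_T hq hK H129.DataTE6n.hA H129.DataTE6n.chainOK H129.DataTE6n.hd_pi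
    H129.DataTE6n.cycOK H129.DataTE6n.rootOK H129.DataTE6n.chain2OK H129.DataTE6n.hd2_eq (N := N)
    (by rw [H129.DataTE6n.fN_eq, hN]) hqN
  exact ⟨T, h1, h3, h4, h5 r hr (notW6 hr h7) hG⟩

/-- **`²E₆(q)`, `q` of order 18.** -/
theorem row_2E6_eighteen (hq : IsPrimePow q) (hK : Fintype.card K = q ^ 2) {p : ℕ} [hp : Fact p.Prime]
    (ho : orderOf (q : ZMod p) = 18) : FprRow (p + 1) 1 p ↥(twistedE6 K q) := by
  have hs := (Cfsg.Agent.S1070.result hq hK).1
  have hq2 : 2 ≤ q := hq.two_le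
  have hi : ∀ H : Subgroup ↥(twistedE6 K q), H ≠ ⊤ → q ^ 11 ≤ H.index := fun H hH => by
    have h5 := Cfsg.Agent.H934.HeisTwE6.bound_2E6 hq hK hs H hH
    rw [show q ^ 22 = (q ^ 11) ^ 2 by ring] at h5
    exact (Nat.pow_le_pow_iff_left (by norm_num)).1 h5
  have hp8 := le_of_ord hp.out (by norm_num) ho
  have h4 : 2 ^ 3 ≤ q ^ 3 := Nat.pow_le_pow_left hq2 3
  obtain ⟨N, hN, hN1⟩ : ∃ N : ℕ, (N : ℤ) = 1 - (q : ℤ) ^ 3 + (q : ℤ) ^ 6 ∧ N + q ^ 3 = q ^ 6 + 1 := by
    have h5 : q ^ 3 ≤ q ^ 6 := Nat.pow_le_pow_right (by omega) (by norm_num)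
    exact ⟨q ^ 6 - q ^ 3 + 1, by push_cast [h5]; ring, by omega⟩
  have hN0 : 0 < N := by
    have h5 : q ^ 3 ≤ q ^ 6 := Nat.pow_le_pow_right (by omega) (by norm_num)
    omega
  have hpN := dvd_18 ho hN
  obtain ⟨T, hT, h1, h2, h3⟩ := torusT18 hq hK hN hp.out (by omega) hpN
  refine row_of_nc hT h1 h2 hpN (fun h => ?_) hN0 h3 (B := 18) (fun x hx => ?_) hi ?_
  · have := Nat.le_of_dvd (by norm_num) (h.trans (Nat.gcd_dvd_left 3 (q + 1)))
    omega
  · obtain ⟨n, hn, h4, -, h5⟩ := nc_2E6 hq hK hx ho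
    rw [h4]
    exact Nat.mul_le_mul_left _ (le_of_totient_six hn h5)
  · have h5 : 2 ^ 5 ≤ q ^ 5 := Nat.pow_le_pow_left hq2 5
    have h7 : q ^ 6 * 32 ≤ q ^ 11 := by
      calc q ^ 6 * 32 ≤ q ^ 6 * q ^ 5 := Nat.mul_le_mul_left _ h5
        _ = q ^ 11 := by ring
    have h8 : (p + 1) * 9 ≤ p * 10 := by omega
    calc (p + 1) * (N * 18) = ((p + 1) * 9) * (2 * N) := by ring
      _ ≤ (p * 10) * (2 * q ^ 6) := Nat.mul_le_mul h8 (Nat.mul_le_mul_left _ (by omega))
      _ = p * (20 * q ^ 6) := by ring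
      _ ≤ p * q ^ 11 := Nat.mul_le_mul_left _ (by omega)

end TE6

end Cfsg.Agent.H448.FprExc
end

-- part: H409/FprG2three
section
set_option linter.all false
open scoped Cfsg.Agent.FastGrp

/-!
# Fixed point ratios of p-elements: `G₂(3)`, `p = 3`
-/

set_option autoImplicit false

namespace Cfsg.Agent.H409

open MulAction Subgroup Cfsg

/-- The number of fixed points of a Sylow subgroup `⟨z⟩` of prime order divides `|N(⟨z⟩) : ⟨z⟩|`. -/
theorem fix_dvd {G Ω : Type*} [Group G] [Finite G] [MulAction G Ω] [Finite Ω] [IsPretransitive G Ω]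
    {r : ℕ} [hr : Fact r.Prime] (hr2 : ¬ r ^ 2 ∣ Nat.card G) {z : G} (hz : orderOf z = r)
    (h0 : Nat.card (fixedBy Ω z) ≠ 0) :
    r * Nat.card (fixedBy Ω z) ∣ Nat.card (normalizer (zpowers z : Set G)) := by
  classical
  have : Nonempty (fixedBy Ω z) := (Nat.card_ne_zero.1 h0).1
  obtain ⟨ω, hω⟩ := this
  have hω' : z • ω = ω := hω
  let N := normalizer (zpowers z : Set G)
  have hzN : z ∈ N := le_normalizer (mem_zpowers z)
  have hpow : ∀ {a : Ω}, z • a = a → ∀ y ∈ zpowers z, y • a = a := by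
    intro a ha y hy
    have h1 : zpowers z ≤ stabilizer G a := by
      rw [zpowers_le]; exact ha
    exact h1 hy
  have horb : orbit N ω = fixedBy Ω z := by
    ext a
    constructor
    · rintro ⟨⟨n, hn⟩, rfl⟩
      change z • n • ω = n • ω
      rw [← inv_smul_eq_iff, ← mul_smul, ← mul_smul]
      apply hpow hω'
      have h1 := (mem_normalizer_iff.1 (inv_mem hn) z).1 (mem_zpowers z)
      rwa [inv_inv] at h1
    · intro ha
      have ha' : z • a = a := ha
      obtain ⟨g, hg⟩ := exists_smul_eq G ω a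
      -- `⟨z⟩` and `g ⟨z⟩ g⁻¹` are Sylow subgroups of the stabiliser of `a`
      have hcardst : ¬ r ^ 2 ∣ Nat.card (stabilizer G a) := fun h => hr2 (h.trans (card_subgroup_dvd_card _))
      let z1 : stabilizer G a := ⟨z, ha'⟩
      let z2 : stabilizer G a := ⟨g * z * g⁻¹, by
        change (g * z * g⁻¹) • a = a
        rw [mul_smul, mul_smul, ← hg, inv_smul_smul, hω']⟩
      have ho1 : orderOf z1 = r := by rw [← orderOf_coe z1]; exact hz
      have ho2 : orderOf z2 = r := by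
        rw [← orderOf_coe z2]
        change orderOf (g * z * g⁻¹) = r
        rw [← hz]
        exact orderOf_injective (MulAut.conj g).toMonoidHom (MulAut.conj g).injective z
      have hsyl : ∀ y : stabilizer G a, orderOf y = r → ∃ P : Sylow r (stabilizer G a),
          (P : Subgroup (stabilizer G a)) = zpowers y := by
        intro y hy
        have h1 : IsPGroup r (zpowers y) := IsPGroup.of_card (n := 1) (by rw [Nat.card_zpowers, hy, pow_one])
        obtain ⟨P, hP⟩ := h1.exists_le_sylow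
        refine ⟨P, (eq_of_le_of_card_ge hP ?_).symm⟩
        obtain ⟨k, hk⟩ := IsPGroup.iff_card.1 P.isPGroup'
        have hk2 : k < 2 := by
          by_contra hcon
          apply hcardst
          have h2 : r ^ 2 ∣ Nat.card P := by rw [hk]; exact pow_dvd_pow r (by omega)
          exact h2.trans (card_subgroup_dvd_card _)
        rw [Nat.card_zpowers, hy]
        calc Nat.card P = r ^ k := hk
          _ ≤ r ^ 1 := Nat.pow_le_pow_right hr.out.pos (by omega)
          _ = r := pow_one r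
      obtain ⟨P1, hP1⟩ := hsyl z1 ho1
      obtain ⟨P2, hP2⟩ := hsyl z2 ho2
      obtain ⟨s, hs⟩ := exists_smul_eq (stabilizer G a) P2 P1
      have hmem : ((s : G) * g) ∈ N := by
        have h1 : (s : G) * g * z * ((s : G) * g)⁻¹ ∈ zpowers z := by
          have h2 : s * z2 * s⁻¹ ∈ (P1 : Subgroup (stabilizer G a)) := by
            rw [← hs, Sylow.smul_def]
            exact ⟨z2, by rw [hP2]; exact mem_zpowers z2, rfl⟩
          rw [hP1] at h2
          obtain ⟨k, hk⟩ := h2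
          refine ⟨k, ?_⟩
          have h3 := congrArg (fun y : stabilizer G a => (y : G)) hk
          simp only [coe_zpow, coe_mul, coe_inv] at h3
          change z ^ k = _
          rw [show z ^ k = (z1 : G) ^ k from rfl, h3]
          change (s : G) * (g * z * g⁻¹) * (s : G)⁻¹ = _
          group
        rw [show N = normalizer (zpowers z : Set G) from rfl, mem_normalizer_iff_map_conj_eq]
        apply eq_of_le_of_card_ge
        · rw [map_le_iff_le_comap, zpowers_le]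
          exact h1
        · rw [card_map_of_injective (MulAut.conj _).injective]
      refine ⟨⟨(s : G) * g, hmem⟩, ?_⟩
      change ((s : G) * g) • ω = a
      rw [mul_smul, hg]
      exact s.2
  have h1 : Nat.card (fixedBy Ω z) = (stabilizer N ω).index := by
    rw [index_stabilizer, horb, Nat.card_coe_set_eq]
  have h2 : (zpowers z).subgroupOf N ≤ stabilizer N ω := by
    rintro ⟨y, hy⟩ hyz
    exact hpow hω' y hyz
  have h3 : Nat.card ((zpowers z).subgroupOf N) = r := by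
    rw [Nat.card_congr (subgroupOfEquivOfLe (H := zpowers z) (K := N) (zpowers_le.2 hzN)).toEquiv,
      Nat.card_zpowers, hz]
  have h4 := (stabilizer N ω).card_mul_index
  rw [h1]
  change _ ∣ Nat.card N
  rw [← h4]
  exact Nat.mul_dvd_mul_right (h3 ▸ card_dvd_of_le h2) _

/-- A simple group with an element `z` of prime order `r` normalised but not centralised by `x`. -/
theorem fix_le_of_norm {G Ω : Type*} [Group G] [Finite G] [MulAction G Ω] [Finite Ω]
    {r : ℕ} [hr : Fact r.Prime] {z x : G} (hz : orderOf z = r) (hx : x * z * x⁻¹ ∈ zpowers z)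
    (hxz : x * z ≠ z * x) :
    r * Nat.card (fixedBy Ω x) ≤ Nat.card Ω + (r - 1) * Nat.card (fixedBy Ω z) := by
  classical
  have hn : ∀ y ∈ zpowers z, x * y * x⁻¹ ∈ zpowers z := by
    rintro _ ⟨k, rfl⟩
    have h1 : x * z ^ k * x⁻¹ = (x * z * x⁻¹) ^ k := (conj_zpow).symm
    change x * z ^ k * x⁻¹ ∈ zpowers z
    rw [h1]
    exact zpow_mem hx k
  have hgen : ∀ y ∈ zpowers z, y ≠ 1 → z ∈ zpowers y := by
    intro y hy hy1
    have h1 : zpowers y = zpowers z := by
      apply eq_of_le_of_card_ge (zpowers_le.2 hy)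
      rw [Nat.card_zpowers, Nat.card_zpowers, hz]
      have h2 : orderOf y ∣ r := by
        rw [← hz, ← Nat.card_zpowers, ← Nat.card_zpowers]
        exact card_dvd_of_le (zpowers_le.2 hy)
      rcases (Nat.dvd_prime hr.out).1 h2 with h3 | h3
      · exact absurd (orderOf_eq_one_iff.1 h3) hy1
      · exact h3.ge
    rw [h1]; exact mem_zpowers z
  have hC : ∀ y ∈ zpowers z, x * y = y * x → y = 1 := by
    intro y hy hxy
    by_contra hy1
    obtain ⟨k, hk⟩ := hgen y hy hy1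
    apply hxz
    have h1 : Commute x y := hxy
    have h2 : Commute x (y ^ k) := h1.zpow_right k
    have hk' : y ^ k = z := hk
    rw [hk'] at h2
    exact h2
  have h1 := one_rad (Ω := Ω) hn hC (m := r) (by
    rintro ω - ⟨y, hy, hyω⟩
    have h2 : Nat.card (orbit (zpowers z) ω) ∣ r := by
      have h3 : Nat.card (orbit (zpowers z) ω) ∣ Nat.card (zpowers z) := by
        rw [Nat.card_coe_set_eq, ← index_stabilizer]
        exact index_dvd_card _
      rwa [Nat.card_zpowers, hz] at h3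
    rcases (Nat.dvd_prime hr.out).1 h2 with h3 | h3
    · exfalso
      apply hyω
      have h4 := (Nat.card_eq_one_iff_unique.1 h3).1
      exact congrArg Subtype.val (h4.elim ⟨y • ω, ⟨⟨y, hy⟩, rfl⟩⟩ ⟨ω, mem_orbit_self _⟩)
    · exact h3.ge)
  have h2 : fixedBy Ω x = {ω : Ω | x • ω = ω ∧ ∀ y ∈ zpowers z, y • ω = ω} ∪
      {ω : Ω | x • ω = ω ∧ ∃ y ∈ zpowers z, y • ω ≠ ω} := by
    ext ω
    simp only [mem_fixedBy, Set.mem_union, Set.mem_ofPred_eq]
    constructor
    · intro h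
      by_cases h3 : ∀ y ∈ zpowers z, y • ω = ω
      · exact Or.inl ⟨h, h3⟩
      · push Not at h3
        exact Or.inr ⟨h, h3⟩
    · rintro (h | h)
      · exact h.1
      · exact h.1
  have h3 : Nat.card (fixedBy Ω x) ≤ {ω : Ω | x • ω = ω ∧ ∀ y ∈ zpowers z, y • ω = ω}.ncard +
      {ω : Ω | x • ω = ω ∧ ∃ y ∈ zpowers z, y • ω ≠ ω}.ncard := by
    rw [Nat.card_coe_set_eq, h2]
    exact Set.ncard_union_le _ _
  have h4 : {ω : Ω | x • ω = ω ∧ ∀ y ∈ zpowers z, y • ω = ω}.ncard ≤ Nat.card (fixedBy Ω z) := by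
    rw [Nat.card_coe_set_eq]
    exact Set.ncard_le_ncard (fun ω hω => hω.2 z (mem_zpowers z)) (Set.toFinite _)
  obtain ⟨s, hs⟩ : ∃ s, r = s + 1 := ⟨r - 1, by have := hr.out.pos; omega⟩
  have h5 := Nat.mul_le_mul_left r h3
  have h6 := Nat.mul_le_mul_left (r - 1) h4
  generalize {ω : Ω | x • ω = ω ∧ ∀ y ∈ zpowers z, y • ω = ω}.ncard = A at *
  generalize {ω : Ω | x • ω = ω ∧ ∃ y ∈ zpowers z, y • ω ≠ ω}.ncard = B at *
  generalize Nat.card (fixedBy Ω x) = fx at *
  generalize Nat.card (fixedBy Ω z) = fz at *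
  generalize Nat.card Ω = n at *
  have hs' : r - 1 = s := by omega
  rw [hs'] at h6 ⊢
  calc r * fx ≤ r * (A + B) := h5
    _ = A + r * B + s * A := by rw [hs]; ring
    _ ≤ n + s * fz := Nat.add_le_add h1 h6

/-- **`G₂(3)`, `p = 3`.** -/
theorem row_G2_three {T : Type*} [Group T] [Finite T] [IsSimpleGroup T] {F : Type*} [Field F] [Fintype F]
    (hF : Fintype.card F = 3) (e : T ≃* Lie.chevG2.group F) : FprRow (3 + 1) 1 3 T := by
  classical
  have h3 : Nat.Prime 3 := Nat.prime_three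
  have h13 : Nat.Prime 13 := by norm_num
  have : Fact (Nat.Prime 13) := ⟨h13⟩
  have : Fact (Nat.Prime 3) := ⟨h3⟩
  have hc : Nat.card ↥(Lie.chevG2.group F) = 4245696 := by
    rw [Cfsg.Agent.S1059.result (F := F) hF]
    norm_num
  have hcT : Nat.card T = 4245696 := by rw [Nat.card_congr e.toEquiv, hc]
  have hfin : Finite ↥(Lie.chevG2.group F) := Nat.finite_of_card_ne_zero (by omega)
  obtain ⟨C, hCc, hC13, hCC⟩ := Cfsg.Agent.H892.TExc.T_G2_3 (F := F) (u := 3) (N := 13) hF (by norm_num) h13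
    (dvd_refl 13) (by norm_num)
  -- the element `z`
  obtain ⟨z, hz, hzC⟩ : ∃ z : T, orderOf z = 13 ∧ Nat.card (centralizer ({z} : Set T)) ∣ 13 := by
    obtain ⟨y, hy⟩ := hCc.exists_generator
    have hyo : orderOf (y : Lie.chevG2.group F) = 13 := by
      rw [orderOf_coe, orderOf_eq_card_of_forall_mem_zpowers hy, hC13]
    refine ⟨e.symm y, by rw [← hyo]; exact orderOf_injective e.symm.toMonoidHom e.symm.injective _, ?_⟩
    rw [← hC13]
    have h1 : (centralizer ({e.symm (y : Lie.chevG2.group F)} : Set T)).map e.toMonoidHom ≤ C := by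
      rintro _ ⟨a, ha, rfl⟩
      apply hCC y y.2 hyo
      have ha' : a * e.symm (y : Lie.chevG2.group F) = e.symm (y : Lie.chevG2.group F) * a :=
        mem_centralizer_singleton_iff.1 ha
      rw [mem_centralizer_singleton_iff]
      have h2 := congrArg e ha'
      rw [map_mul, map_mul, e.apply_symm_apply] at h2
      exact h2
    have h2 := card_dvd_of_le h1
    rwa [card_map_of_injective (f := e.toMonoidHom) e.injective] at h2
  have hzcard : Nat.card (centralizer ({z} : Set T)) = 13 := by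
    rcases (Nat.dvd_prime h13).1 hzC with h1 | h1
    · exfalso
      have h2 : zpowers z ≤ centralizer ({z} : Set T) := by
        rw [zpowers_le, mem_centralizer_singleton_iff]
      have h3 := card_dvd_of_le h2
      rw [Nat.card_zpowers, hz, h1] at h3
      omega
    · exact h1
  have h132 : ¬ 13 ^ 2 ∣ Nat.card T := by rw [hcT]; norm_num
  -- the normaliser
  have hN : Nat.card (normalizer (zpowers z : Set T)) = 78 := by
    have h1 := Cfsg.Agent.H701.relIndex_dvd_totient hz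
    have h2 : centralizer ({z} : Set T) ≤ normalizer (zpowers z : Set T) := by
      intro g hg
      rw [mem_normalizer_iff_map_conj_eq]
      have hg' : g * z = z * g := mem_centralizer_singleton_iff.1 hg
      apply eq_of_le_of_card_ge
      · rw [map_le_iff_le_comap, zpowers_le]
        change g * z * g⁻¹ ∈ zpowers z
        rw [hg']
        have h3 : z * g * g⁻¹ = z := by group
        rw [h3]
        exact mem_zpowers z
      · rw [card_map_of_injective (MulAut.conj g).injective]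
    have h3 := ((centralizer ({z} : Set T)).subgroupOf (normalizer (zpowers z : Set T))).card_mul_index
    rw [Nat.card_congr (subgroupOfEquivOfLe h2).toEquiv, hzcard] at h3
    obtain ⟨d, hd⟩ : ∃ d, ((centralizer ({z} : Set T)).subgroupOf (normalizer (zpowers z : Set T))).index = d :=
      ⟨_, rfl⟩
    have hd12 : d ∣ 12 := by
      have h4 : Nat.totient 13 = 12 := by rw [Nat.totient_prime h13]
      rw [h4] at h1
      rw [← hd]; exact h1
    rw [hd] at h3
    have h5 : IsPGroup 13 (zpowers z) := IsPGroup.of_card (n := 1) (by rw [Nat.card_zpowers, hz, pow_one])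
    obtain ⟨P, hP⟩ := h5.exists_le_sylow
    have hPz : (P : Subgroup T) = zpowers z := by
      refine (eq_of_le_of_card_ge hP ?_).symm
      obtain ⟨k, hk⟩ := IsPGroup.iff_card.1 P.isPGroup'
      have hk2 : k < 2 := by
        by_contra hcon
        apply h132
        have h2 : 13 ^ 2 ∣ Nat.card P := by rw [hk]; exact pow_dvd_pow 13 (by omega)
        exact h2.trans (card_subgroup_dvd_card _)
      rw [Nat.card_zpowers, hz]
      calc Nat.card P = 13 ^ k := hk
        _ ≤ 13 ^ 1 := Nat.pow_le_pow_right (by norm_num) (by omega)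
        _ = 13 := pow_one 13
    have h6 := P.card_eq_index_normalizer
    rw [show (normalizer (P : Set T)) = normalizer (zpowers z : Set T) by
      rw [← hPz]; rfl] at h6
    have h7 := card_sylow_modEq_one 13 T
    rw [h6] at h7
    have h8 := (normalizer (zpowers z : Set T)).card_mul_index
    rw [hcT, ← h3] at h8
    rw [← h3]
    generalize (normalizer (zpowers z : Set T)).index = i at *
    have h9 : i % 13 = 1 := h7
    have h10 : d ≤ 12 := Nat.le_of_dvd (by norm_num) hd12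
    interval_cases d <;> omega
  -- the element `x`
  obtain ⟨⟨x, hxN⟩, hx⟩ := exists_prime_orderOf_dvd_card' (G := normalizer (zpowers z : Set T)) 3
    (by rw [hN]; norm_num)
  have hx3 : orderOf x = 3 := by rw [← orderOf_coe] at hx; exact hx
  have hxz : x * z ≠ z * x := by
    intro h
    have h1 : zpowers x ≤ centralizer ({z} : Set T) := by
      rw [zpowers_le, mem_centralizer_singleton_iff]; exact h
    have h2 := card_dvd_of_le h1
    rw [Nat.card_zpowers, hx3, hzcard] at h2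
    omega
  have hxz' : x * z * x⁻¹ ∈ zpowers z := (mem_normalizer_iff.1 hxN z).1 (mem_zpowers z)
  intro H hH
  refine ⟨x, ⟨1, by rw [hx3, pow_one]⟩, ?_⟩
  have hle := fix_le_of_norm (Ω := T ⧸ H) hz hxz' hxz
  have hmod : Nat.card (T ⧸ H) ≡ Nat.card (fixedBy (T ⧸ H) z) [MOD 13] := by
    have h1 : IsPGroup 13 (zpowers z) := IsPGroup.of_card (n := 1) (by rw [Nat.card_zpowers, hz, pow_one])
    have h2 := h1.card_modEq_card_fixedPoints (T ⧸ H)
    have h3 : fixedPoints (zpowers z) (T ⧸ H) = fixedBy (T ⧸ H) z := by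
      ext ω
      constructor
      · intro h
        exact h ⟨z, mem_zpowers z⟩
      · rintro h ⟨y, hy⟩
        have h4 : zpowers z ≤ stabilizer T ω := by
          rw [zpowers_le]; exact h
        exact h4 hy
    rwa [h3] at h2
  have hne : Nat.card (fixedBy (T ⧸ H) z) ≠ Nat.card (T ⧸ H) := by
    intro h
    have h1 : ∀ ω : T ⧸ H, z • ω = ω := by
      intro ω
      have h2 : fixedBy (T ⧸ H) z = Set.univ := by
        apply Set.eq_of_subset_of_ncard_le (Set.subset_univ _) _ (Set.toFinite _)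
        rw [Set.ncard_univ, ← h, Nat.card_coe_set_eq]
      have h3 : ω ∈ fixedBy (T ⧸ H) z := by rw [h2]; trivial
      exact h3
    have h2 : z ∈ H.normalCore := by
      rw [normalCore_eq_ker, MonoidHom.mem_ker]
      ext ω
      exact h1 ω
    rcases (inferInstance : H.normalCore.Normal).eq_bot_or_eq_top with h3 | h3
    · rw [h3, mem_bot] at h2
      rw [h2, orderOf_one] at hz
      omega
    · exact hH (top_le_iff.1 (h3 ▸ normalCore_le H))
  have hdvd : Nat.card (T ⧸ H) ∣ 4245696 := by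
    rw [← hcT]
    exact index_dvd_card H
  have hfle : Nat.card (fixedBy (T ⧸ H) z) ≤ Nat.card (T ⧸ H) := by
    rw [Nat.card_coe_set_eq, ← Set.ncard_univ]
    exact Set.ncard_le_ncard (Set.subset_univ _) (Set.toFinite _)
  have hf6 : Nat.card (fixedBy (T ⧸ H) z) = 0 ∨ Nat.card (fixedBy (T ⧸ H) z) ∣ 6 := by
    by_cases h0 : Nat.card (fixedBy (T ⧸ H) z) = 0
    · exact Or.inl h0
    · right
      have h1 := fix_dvd (Ω := T ⧸ H) h132 hz h0
      rw [hN] at h1
      have h2 : 13 * Nat.card (fixedBy (T ⧸ H) z) ∣ 13 * 6 := h1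
      exact Nat.dvd_of_mul_dvd_mul_left (by norm_num) h2
  generalize Nat.card (fixedBy (T ⧸ H) z) = f at *
  generalize Nat.card (fixedBy (T ⧸ H) x) = g at *
  generalize Nat.card (T ⧸ H) = n at *
  have hmod' : n % 13 = f % 13 := hmod
  rcases hf6 with rfl | h6
  · omega
  · have hf : f ≤ 6 := Nat.le_of_dvd (by norm_num) h6
    by_cases h19 : n = 19
    · subst h19; norm_num at hdvd
    · interval_cases f <;> omega

end Cfsg.Agent.H409
end

-- part: H448/FprExc/RowD4
section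
prune_inst 0xc0003004012000000000001240001802d2000000002b8000118003020687590000020620480009080000000400340008110000000200000000000400011801a0008040000200a000200006001002000000000000000000000000000000041000000000000
set_option linter.all false
open scoped Cfsg.Agent.FastGrp

-- part: H448/FprExc/PNil
section
/-!
# Self-normalising subgroups of prime order; fixed points
-/

set_option autoImplicit false
open Subgroup MulAction

namespace Cfsg.Agent.H448.FprExc

/-- fixed points of an element of order `p` on a subgroup -/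
theorem card_fix_mod {G : Type*} [Group G] [Finite G] {p : ℕ} [hp : Fact p.Prime] {x : G} (hx : orderOf x = p)
    (A : Subgroup G) (hA : ∀ a ∈ A, x * a * x⁻¹ ∈ A) (h1 : ∀ a ∈ A, x * a = a * x → a = 1) :
    Nat.card A ≡ 1 [MOD p] := by
  classical
  have := Fintype.ofFinite G
  let f : Function.End A := fun a => ⟨x * a * x⁻¹, hA a a.2⟩
  have hf : ∀ m : ℕ, ∀ a : A, (((f ^ m) a : A) : G) = x ^ m * a * (x ^ m)⁻¹ := by
    intro m
    induction m with
    | zero =>
      intro a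
      change (a : G) = _
      simp
    | succ m ih =>
      intro a
      rw [pow_succ']
      change x * ((f ^ m) a : A) * x⁻¹ = _
      rw [ih, pow_succ']
      group
  have h2 : f ^ p ^ 1 = 1 := by
    funext a
    apply Subtype.ext
    rw [hf, pow_one, ← hx, pow_orderOf_eq_one]
    change _ = (a : G)
    simp
  have h3 := Equiv.Perm.card_fixedPoints_modEq h2
  rw [← Nat.card_eq_fintype_card, ← Nat.card_eq_fintype_card] at h3
  have h4 : Nat.card (Function.fixedPoints f) = 1 := by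
    rw [Nat.card_eq_one_iff_unique]
    have key : ∀ a : Function.fixedPoints f, a.1 = 1 := by
      intro a
      have h5 := congrArg Subtype.val a.2
      change x * a.1.1 * x⁻¹ = a.1.1 at h5
      exact Subtype.ext (h1 _ a.1.2 (mul_inv_eq_iff_eq_mul.1 h5))
    refine ⟨⟨fun a b => Subtype.ext ((key a).trans (key b).symm)⟩, ⟨⟨1, ?_⟩⟩⟩
    apply Subtype.ext
    change x * 1 * x⁻¹ = 1
    group
  rwa [h4] at h3

/-- a group with a self-normalising subgroup of prime order `p`, `p²` not dividing the order -/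
theorem sylow_mod {H : Type*} [Group H] [Finite H] {p s : ℕ} [hp : Fact p.Prime] [hs : Fact s.Prime] (hsp : s ≠ p)
    (hp2 : ¬ p ^ 2 ∣ Nat.card H) {x : H} (hx : orderOf x = p)
    (hN : Nat.card (normalizer ((zpowers x : Subgroup H) : Set H)) ≤ p) (S : Sylow s H) :
    Nat.card S ≡ 1 [MOD p] := by
  classical
  have hxN : zpowers x ≤ normalizer ((zpowers x : Subgroup H) : Set H) := le_normalizer
  have hNe : normalizer ((zpowers x : Subgroup H) : Set H) = zpowers x :=
    (Subgroup.eq_of_le_of_card_ge hxN (by rw [Nat.card_zpowers, hx]; exact hN)).symm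
  -- the Sylow subgroup
  have hPp : IsPGroup p (zpowers x) := IsPGroup.of_card (n := 1) (by rw [Nat.card_zpowers, hx, pow_one])
  have hidx : ¬ p ∣ (zpowers x).index := by
    intro h
    apply hp2
    have h1 := (zpowers x).card_mul_index
    rw [Nat.card_zpowers, hx] at h1
    rw [← h1, pow_two]
    exact Nat.mul_dvd_mul_left _ h
  let P : Sylow p H := hPp.toSylow hidx
  have hP : (P : Subgroup H) = zpowers x := rfl
  have hPc : normalizer ((P : Subgroup H) : Set H) ≤ centralizer ((P : Subgroup H) : Set H) := by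
    rw [hP, hNe]
    rintro _ ⟨i, rfl⟩
    rintro _ ⟨j, rfl⟩
    change x ^ j * x ^ i = x ^ i * x ^ j
    rw [← zpow_add, ← zpow_add, add_comm]
  have hcompl := MonoidHom.ker_transferSylow_isComplement' P hPc
  set M := (MonoidHom.transferSylow P hPc).ker with hM
  have hMn : M.Normal := MonoidHom.normal_ker _
  have hMi : M.index = p := by rw [hcompl.symm.index_eq_card]; exact (Nat.card_zpowers x).trans hx
  have hpM : ¬ p ∣ Nat.card M := MonoidHom.not_dvd_card_ker_transferSylow P hPc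
  -- the Sylow subgroup is contained in `M`
  have hSM : (S : Subgroup H) ≤ M := by
    intro a ha
    have h1 : a ^ p ∈ M := by
      have h2 := M.pow_index_mem a
      rwa [hMi] at h2
    obtain ⟨k, hk⟩ := (IsPGroup.iff_orderOf).1 S.isPGroup' ⟨a, ha⟩
    have hk' : orderOf a = s ^ k := by rw [← hk]; exact Subgroup.orderOf_coe (⟨a, ha⟩ : S)
    have hcop : Nat.Coprime p (orderOf a) := by
      rw [hk']
      exact Nat.Coprime.pow_right _ ((Nat.coprime_primes hp.out hs.out).2 hsp.symm)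
    have h3 : a ∈ zpowers (a ^ p) := by
      have h4 : zpowers (a ^ p) = zpowers a := by
        apply Subgroup.eq_of_le_of_card_ge
        · rw [zpowers_le]; exact pow_mem (mem_zpowers a) p
        · rw [Nat.card_zpowers, Nat.card_zpowers, Nat.Coprime.orderOf_pow hcop.symm]
      rw [h4]; exact mem_zpowers a
    exact (zpowers_le.2 h1) h3
  -- an element of order `p` normalises it
  have hF : normalizer ((S : Subgroup H) : Set H) ⊔ M = ⊤ := Sylow.normalizer_sup_eq_top' S hSM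
  have hd : p ∣ Nat.card (normalizer ((S : Subgroup H) : Set H)) := by
    have h1 : M.relIndex (normalizer ((S : Subgroup H) : Set H) ⊔ M) = M.relIndex (normalizer ((S : Subgroup H) : Set H)) :=
      relIndex_sup_right _ _
    rw [hF, relIndex_top_right, hMi] at h1
    rw [h1]
    exact relIndex_dvd_card _ _
  obtain ⟨y, hy⟩ := exists_prime_orderOf_dvd_card' p hd
  have hy' : orderOf (y : H) = p := by rw [← hy]; exact Subgroup.orderOf_coe y
  refine card_fix_mod hy' (S : Subgroup H) (fun a ha => (mem_normalizer_iff.1 y.2 a).1 ha) fun a ha hay => ?_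
  -- the centraliser of `y`
  have hPy : IsPGroup p (zpowers (y : H)) := IsPGroup.of_card (n := 1) (by rw [Nat.card_zpowers, hy', pow_one])
  have hidy : ¬ p ∣ (zpowers (y : H)).index := by
    intro h
    apply hp2
    have h1 := (zpowers (y : H)).card_mul_index
    rw [Nat.card_zpowers, hy'] at h1
    rw [← h1, pow_two]
    exact Nat.mul_dvd_mul_left _ h
  obtain ⟨g, hg⟩ := exists_smul_eq H (hPy.toSylow hidy) P
  have hg' : (zpowers (y : H)).map (MulAut.conj g).toMonoidHom = zpowers x := by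
    have h1 := congrArg (fun Q : Sylow p H => (Q : Subgroup H)) hg
    exact h1
  have h5 : g * a * g⁻¹ ∈ zpowers x := by
    rw [← hNe, ← hg']
    rw [mem_normalizer_iff]
    intro b
    have h6 : ∀ b ∈ (zpowers (y : H)).map (MulAut.conj g).toMonoidHom, (g * a * g⁻¹) * b = b * (g * a * g⁻¹) := by
      rintro _ ⟨_, ⟨i, rfl⟩, rfl⟩
      change g * a * g⁻¹ * (g * (y : H) ^ i * g⁻¹) = g * (y : H) ^ i * g⁻¹ * (g * a * g⁻¹)
      have h7 : (y : H) ^ i * a = a * (y : H) ^ i := ((show Commute (y : H) a from hay).zpow_left i).eq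
      calc g * a * g⁻¹ * (g * (y : H) ^ i * g⁻¹) = g * (a * (y : H) ^ i) * g⁻¹ := by group
        _ = _ := by rw [← h7]; group
    constructor
    · intro hb
      rw [h6 b hb, mul_inv_cancel_right]
      exact hb
    · intro hb
      have h8 := h6 _ hb
      have h9 : b = g * a * g⁻¹ * b * (g * a * g⁻¹)⁻¹ := by
        have : g * a * g⁻¹ * (g * a * g⁻¹ * b * (g * a * g⁻¹)⁻¹) = g * a * g⁻¹ * b := by rw [h8]; group
        exact (mul_left_cancel this).symm
      rw [h9]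
      exact hb
  have h6 : g * a * g⁻¹ ∈ M := hMn.conj_mem a (hSM ha) g
  have h7 : g * a * g⁻¹ = 1 := by
    have h8 := MonoidHom.ker_transferSylow_disjoint P hPc (zpowers x) hPp
    exact Subgroup.disjoint_def.1 h8 h6 h5
  have : a = g⁻¹ * (g * a * g⁻¹) * g := by group
  rw [this, h7]
  group

end Cfsg.Agent.H448.FprExc
end

-- part: H448/FprExc/FixArith
section
/-!
# Fixed points of a subgroup of prime order: arithmetic
-/

set_option autoImplicit false
open Subgroup MulAction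

namespace Cfsg.Agent.H448.FprExc

/-- the normaliser acts transitively on the fixed points -/
theorem fix_mul {G Ω : Type*} [Group G] [Finite G] [MulAction G Ω] [Finite Ω] [IsPretransitive G Ω]
    {r : ℕ} [hr : Fact r.Prime] (hr2 : ¬ r ^ 2 ∣ Nat.card G) {z : G} (hz : orderOf z = r)
    (h0 : Nat.card (fixedBy Ω z) ≠ 0) :
    ∃ ω : Ω, z • ω = ω ∧ Nat.card (fixedBy Ω z) *
      Nat.card (stabilizer (normalizer ((zpowers z : Subgroup G) : Set G)) ω) =
        Nat.card (normalizer ((zpowers z : Subgroup G) : Set G)) := by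
  classical
  have : Nonempty (fixedBy Ω z) := (Nat.card_ne_zero.1 h0).1
  obtain ⟨ω, hω⟩ := this
  have hω' : z • ω = ω := hω
  let N := normalizer ((zpowers z : Subgroup G) : Set G)
  have hzN : z ∈ N := le_normalizer (mem_zpowers z)
  have hpow : ∀ {a : Ω}, z • a = a → ∀ y ∈ zpowers z, y • a = a := by
    intro a ha y hy
    have h1 : zpowers z ≤ stabilizer G a := by
      rw [zpowers_le]; exact ha
    exact h1 hy
  have horb : orbit N ω = fixedBy Ω z := by
    ext a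
    constructor
    · rintro ⟨⟨n, hn⟩, rfl⟩
      change z • n • ω = n • ω
      rw [← inv_smul_eq_iff, ← mul_smul, ← mul_smul]
      apply hpow hω'
      have h1 := (mem_normalizer_iff.1 (inv_mem hn) z).1 (mem_zpowers z)
      rwa [inv_inv] at h1
    · intro ha
      have ha' : z • a = a := ha
      obtain ⟨g, hg⟩ := exists_smul_eq G ω a
      -- `⟨z⟩` and `g ⟨z⟩ g⁻¹` are Sylow subgroups of the stabiliser of `a`
      have hcardst : ¬ r ^ 2 ∣ Nat.card (stabilizer G a) := fun h => hr2 (h.trans (card_subgroup_dvd_card _))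
      let z1 : stabilizer G a := ⟨z, ha'⟩
      let z2 : stabilizer G a := ⟨g * z * g⁻¹, by
        change (g * z * g⁻¹) • a = a
        rw [mul_smul, mul_smul, ← hg, inv_smul_smul, hω']⟩
      have ho1 : orderOf z1 = r := by rw [← orderOf_coe z1]; exact hz
      have ho2 : orderOf z2 = r := by
        rw [← orderOf_coe z2]
        change orderOf (g * z * g⁻¹) = r
        rw [← hz]
        exact orderOf_injective (MulAut.conj g).toMonoidHom (MulAut.conj g).injective z
      have hsyl : ∀ y : stabilizer G a, orderOf y = r → ∃ P : Sylow r (stabilizer G a),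
          (P : Subgroup (stabilizer G a)) = zpowers y := by
        intro y hy
        have h1 : IsPGroup r (zpowers y) := IsPGroup.of_card (n := 1) (by rw [Nat.card_zpowers, hy, pow_one])
        obtain ⟨P, hP⟩ := h1.exists_le_sylow
        refine ⟨P, (eq_of_le_of_card_ge hP ?_).symm⟩
        obtain ⟨k, hk⟩ := IsPGroup.iff_card.1 P.isPGroup'
        have hk2 : k < 2 := by
          by_contra hcon
          apply hcardst
          have h2 : r ^ 2 ∣ Nat.card P := by rw [hk]; exact pow_dvd_pow r (by omega)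
          exact h2.trans (card_subgroup_dvd_card _)
        rw [Nat.card_zpowers, hy]
        calc Nat.card P = r ^ k := hk
          _ ≤ r ^ 1 := Nat.pow_le_pow_right hr.out.pos (by omega)
          _ = r := pow_one r
      obtain ⟨P1, hP1⟩ := hsyl z1 ho1
      obtain ⟨P2, hP2⟩ := hsyl z2 ho2
      obtain ⟨s, hs⟩ := exists_smul_eq (stabilizer G a) P2 P1
      have hmem : ((s : G) * g) ∈ N := by
        have h1 : (s : G) * g * z * ((s : G) * g)⁻¹ ∈ zpowers z := by
          have h2 : s * z2 * s⁻¹ ∈ (P1 : Subgroup (stabilizer G a)) := by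
            rw [← hs, Sylow.smul_def]
            exact ⟨z2, by rw [hP2]; exact mem_zpowers z2, rfl⟩
          rw [hP1] at h2
          obtain ⟨k, hk⟩ := h2
          refine ⟨k, ?_⟩
          have h3 := congrArg (fun y : stabilizer G a => (y : G)) hk
          simp only [coe_zpow, coe_mul, coe_inv] at h3
          change z ^ k = _
          rw [show z ^ k = (z1 : G) ^ k from rfl, h3]
          change (s : G) * (g * z * g⁻¹) * (s : G)⁻¹ = _
          group
        rw [show N = normalizer ((zpowers z : Subgroup G) : Set G) from rfl, mem_normalizer_iff_map_conj_eq]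
        apply eq_of_le_of_card_ge
        · rw [map_le_iff_le_comap, zpowers_le]
          exact h1
        · rw [card_map_of_injective (MulAut.conj _).injective]
      refine ⟨⟨(s : G) * g, hmem⟩, ?_⟩
      change ((s : G) * g) • ω = a
      rw [mul_smul, hg]
      exact s.2
  have h1 : Nat.card (fixedBy Ω z) = (stabilizer N ω).index := by
    rw [index_stabilizer, horb, Nat.card_coe_set_eq]
  refine ⟨ω, hω', ?_⟩
  rw [h1, mul_comm]
  exact (stabilizer N ω).card_mul_index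

/-- **The conditions on the number of fixed points.** -/
theorem small_crit {G : Type*} [Group G] [Finite G] {p : ℕ} [hp : Fact p.Prime] (hp2 : ¬ p ^ 2 ∣ Nat.card G) {x : G}
    (hx : orderOf x = p) (H : Subgroup G) :
    Nat.card (fixedBy (G ⧸ H) x) = 0 ∨
      (p * Nat.card (fixedBy (G ⧸ H) x) ∣ Nat.card (normalizer ((zpowers x : Subgroup G) : Set G)) ∧
        H.index ≡ Nat.card (fixedBy (G ⧸ H) x) [MOD p] ∧
        (p * Nat.card (fixedBy (G ⧸ H) x) = Nat.card (normalizer ((zpowers x : Subgroup G) : Set G)) →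
          ∀ s a : ℕ, s.Prime → s ≠ p → s ^ a ∣ Nat.card H → ¬ s ^ (a + 1) ∣ Nat.card H → s ^ a ≡ 1 [MOD p])) := by
  classical
  by_cases h0 : Nat.card (fixedBy (G ⧸ H) x) = 0
  · exact Or.inl h0
  right
  refine ⟨Cfsg.Agent.H409.fix_dvd hp2 hx h0, Cfsg.Agent.H452.FprCyc.fix_modEq hx H, ?_⟩
  intro hN s a hs hsp h1 h2
  obtain ⟨ω, hω, hmul⟩ := fix_mul hp2 hx h0
  have hst : Nat.card (stabilizer (normalizer ((zpowers x : Subgroup G) : Set G)) ω) = p := by
    rw [← hN, mul_comm] at hmul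
    exact Nat.eq_of_mul_eq_mul_right (Nat.pos_of_ne_zero h0) hmul
  -- the order of the stabiliser
  have hcard : Nat.card (stabilizer G ω) = Nat.card H := by
    have h3 := (stabilizer G ω).card_mul_index
    rw [index_stabilizer_of_transitive] at h3
    have h4 := H.card_mul_index
    have h5 : H.index = Nat.card (G ⧸ H) := rfl
    rw [h5] at h4
    exact Nat.eq_of_mul_eq_mul_right Nat.card_pos (h3.trans h4.symm)
  set L := stabilizer G ω with hL
  let x' : L := ⟨x, hω⟩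
  have hx' : orderOf x' = p := by rw [← hx]; exact (Subgroup.orderOf_coe x').symm
  have hNL : Nat.card (normalizer ((zpowers x' : Subgroup L) : Set L)) ≤ p := by
    rw [← hst]
    refine Nat.card_le_card_of_injective (fun y => (⟨⟨(y : L), ?_⟩, ?_⟩ :
      stabilizer (normalizer ((zpowers x : Subgroup G) : Set G)) ω)) ?_
    · rw [mem_normalizer_iff_map_conj_eq]
      apply eq_of_le_of_card_ge
      · rw [map_le_iff_le_comap, zpowers_le]
        have h3 := (mem_normalizer_iff.1 y.2 x').1 (mem_zpowers x')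
        obtain ⟨k, hk⟩ := h3
        exact ⟨k, congrArg (fun z : L => (z : G)) hk⟩
      · rw [card_map_of_injective (MulAut.conj _).injective]
    · exact (y : L).2
    · intro y z hyz
      have h3 := congrArg (fun w : stabilizer (normalizer ((zpowers x : Subgroup G) : Set G)) ω =>
        ((w : normalizer ((zpowers x : Subgroup G) : Set G)) : G)) hyz
      exact Subtype.ext (Subtype.ext h3)
  have : Fact s.Prime := ⟨hs⟩
  obtain ⟨S⟩ : Nonempty (Sylow s L) := inferInstance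
  have h3 := sylow_mod hsp (fun h => hp2 (h.trans (card_subgroup_dvd_card L))) hx' hNL S
  have h4 : Nat.card S = s ^ a := by
    obtain ⟨b, hb⟩ := IsPGroup.iff_card.1 S.isPGroup'
    have h5 := S.card_eq_multiplicity
    rw [hb] at h5
    have h6 : s ^ b ∣ Nat.card L := hb ▸ card_subgroup_dvd_card _
    have h7 : ¬ s ^ (b + 1) ∣ Nat.card L := by
      intro h8
      have h9 := (S : Subgroup L).card_mul_index
      rw [hb] at h9
      rw [← h9, pow_succ] at h8
      exact S.not_dvd_index (Nat.dvd_of_mul_dvd_mul_left (pow_pos hs.pos b) h8)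
    rw [hcard] at h6 h7
    have h8 : b = a := by
      rcases lt_trichotomy b a with h | h | h
      · exact absurd ((pow_dvd_pow s h).trans h1) h7
      · exact h
      · exact absurd ((pow_dvd_pow s h).trans h6) h2
    rw [hb, h8]
  rwa [h4] at h3

end Cfsg.Agent.H448.FprExc
end

-- part: H448/FprExc/RowD4
section
/-!
# Fixed point ratios: `³D₄(q)`, `q` of order 12
-/

set_option autoImplicit false
open Subgroup MulAction

namespace Cfsg.Agent.H448.FprExc

open Cfsg.Lie Cfsg.Agent.H409 Cfsg.Agent.H129 Cfsg.Agent.Nodes.RGDChev Cfsg.Agent.H378.ExcAdj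
  Cfsg.Agent.ChevalleyStructure.CoxeterGeom Cfsg.Agent.ChevalleyStructure.CoxeterGeomTypes
  Cfsg.Agent.Tits.Roots Cfsg.Agent.Tits.Core Cfsg.Agent.Nodes.Reps

universe u

section Det

variable {l : ℕ} {M : CoxeterMatrix (Fin l)} {W : Type*} [Group W] (cs : CoxeterSystem M W)
  {A : Fin l → Fin l → ℤ} (h : IsCartan M A)

/-- `w - 1` factors through the Cartan matrix -/
theorem exists_factor (w : W) : ∃ B : Module.End ℤ (Fin l → ℤ),
    rep cs h w - 1 = B * Matrix.toLin' (Matrix.of A) := by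
  have hs : ∀ i : Fin l, ∃ B : Module.End ℤ (Fin l → ℤ),
      rep cs h (cs.simple i) - 1 = B * Matrix.toLin' (Matrix.of A) := by
    intro i
    refine ⟨-(LinearMap.single ℤ (fun _ : Fin l => ℤ) i ∘ₗ LinearMap.proj i), ?_⟩
    rw [rep_simple]
    refine LinearMap.ext fun v => ?_
    rw [LinearMap.sub_apply, Module.End.mul_apply, Matrix.toLin'_apply]
    change (v - Pi.single i (pairing A i v)) - v = -(Pi.single i ((Matrix.of A).mulVec v i))
    have h1 : (Matrix.of A).mulVec v i = pairing A i v := rfl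
    rw [h1]
    abel
  induction w using cs.simple_induction with
  | simple i => exact hs i
  | one => exact ⟨0, by rw [map_one, sub_self, zero_mul]⟩
  | mul a b ha hb =>
    obtain ⟨Ba, ha⟩ := ha
    obtain ⟨Bb, hb⟩ := hb
    refine ⟨rep cs h a * Bb + Ba, ?_⟩
    rw [add_mul, mul_assoc, ← hb, ← ha, map_mul, mul_sub, mul_one]
    abel

theorem det_dvd (w : W) : (Matrix.of A).det ∣ LinearMap.det (rep cs h w - 1) := by
  obtain ⟨B, hB⟩ := exists_factor cs h w
  rw [hB, map_mul, LinearMap.det_toLin']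
  exact dvd_mul_left _ _

end Det

theorem det_D4 : (Matrix.of (cartanOf chevD4 4)).det = 4 := by (first | (set_option backward.isDefEq.respectTransparency.types false in set_option synthInstance.maxSize 99999 in (delta _root_.Cfsg.Agent.ChevalleyStructure.CoxeterGeomTypes.cartanOf _root_.Cfsg.Lie.ChevalleyDatum.simple _root_.Cfsg.Lie.ChevalleyDatum.cartan; exact _root_.Cfsg.Agent.FastDec.of (by decide +kernel))) | decide +kernel)

theorem not_four {n : ℕ} (hn : n ∈ [5, 8, 10, 12]) : ¬ (4 : ℤ) ∣ (Polynomial.cyclotomic n ℤ).eval 1 := by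
  have h5 : (Polynomial.cyclotomic 5 ℤ).eval 1 = 5 := by
    have : Fact (Nat.Prime 5) := ⟨by norm_num⟩
    exact_mod_cast Polynomial.eval_one_cyclotomic_prime (R := ℤ) (p := 5)
  have h10 : (Polynomial.cyclotomic 10 ℤ).eval 1 = 1 := by
    have h := Polynomial.cyclotomic_expand_eq_cyclotomic_mul Nat.prime_two (show ¬ 2 ∣ 5 by norm_num) ℤ
    have h' := congrArg (Polynomial.eval 1) h
    rw [Polynomial.expand_eval, Polynomial.eval_mul, one_pow, show 5 * 2 = 10 from rfl, h5] at h'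
    omega
  simp only [List.mem_cons, List.not_mem_nil, or_false] at hn
  rcases hn with rfl | rfl | rfl | rfl
  · rw [h5]; decide
  · rw [eval_cyc8]; norm_num
  · rw [h10]; decide
  · rw [eval_cyc12]; norm_num

section D

variable {K : Type u} [Field K] [Fintype K] {q : ℕ}

/-- the index of the centraliser in the normaliser -/
theorem nc_3D4' (hq : IsPrimePow q) (hK : Fintype.card K = q ^ 3) {x : ↥(twistedD4 K q)} {r : ℕ} [hr : Fact r.Prime]
    (hx : orderOf x = r) (h : od q r = 12) :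
    ∃ n, n ∈ [1, 2, 3, 4, 6] ∧ Nat.card (normalizer ((zpowers x : Subgroup ↥(twistedD4 K q)) : Set ↥(twistedD4 K q))) =
      Nat.card (centralizer ({x} : Set ↥(twistedD4 K q))) * n := by
  obtain ⟨n, hn, h1, -, h2, h3⟩ := nc_3D4 hq hK hx h
  refine ⟨n, mem_of_totient_three hn ?_, h1⟩
  by_contra h4
  have h5 : n.totient = 4 := by omega
  obtain ⟨w, hw⟩ := h3 h5
  have h6 := Cfsg.Agent.H378.LatCyc.det_sub hn h5 hw 1
  rw [one_smul] at h6
  have h7 := det_dvd coxeterD4.toCoxeterSystem Cfsg.Agent.Nodes.RGDTwD4.hp.isCartan w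
  rw [det_D4, ← Int.natAbs_dvd_natAbs, h6, Int.natAbs_dvd_natAbs] at h7
  exact not_four (mem_of_totient_four hn h5) h7

theorem torusD (hq : IsPrimePow q) (hK : Fintype.card K = q ^ 3) {N : ℕ}
    (hN : (N : ℤ) = 1 - (q : ℤ) ^ 2 + (q : ℤ) ^ 4) {r : ℕ} (hr : r.Prime)
    (h7 : 7 < r) (hrN : r ∣ N) :
    ∃ T : Subgroup ↥(twistedD4 K q), IsCyclic ↥T ∧ Nat.card ↥T = N ∧
      ∀ y ∈ T, orderOf y = r → Subgroup.centralizer {y} ≤ T := by
  have hrq : (r : ℤ) ∣ 1 - (q : ℤ) ^ 2 + (q : ℤ) ^ 4 := by rw [← hN]; exact Int.natCast_dvd_natCast.2 hrN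
  have hrW := H129.TwD4Cyc.not_dvd_W hr (by omega) (by omega)
  have hG : ∀ s, ¬ (r : ℤ) ∣ H129.TorusTw.Gq H129.DataD4C.B (q : ℤ) (H129.DataD4C.R s) := by
    intro s hs
    exact not_dvd_int (m := 1) (by norm_num) (by omega) (H129.DataD4C.dvd_of_G hrq s hs)
  have hqN : q.Coprime N := H129.UntwData.coprime_of_eq (a := -(q : ℤ) + (q : ℤ) ^ 3) (by rw [hN]; ring)
  obtain ⟨T, h1, h3, h5, -⟩ := H129.TwT.tri_T hq hK H129.DataD4C.hA H129.DataD4C.chainOK H129.DataD4C.hd_pi
    H129.DataD4C.cycOK H129.DataD4C.rootOK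
    H129.DataD4C.chain2OK H129.DataD4C.hd2_eq (N := N)
    (by rw [H129.DataD4C.fN_eq, hN]) hqN
  exact ⟨T, h1, h3, h5 r hr hrW hG⟩

/-- the case of a prime torus -/
theorem row_prime {G : Type*} [Group G] [Finite G] {p : ℕ} [hp : Fact p.Prime] (hp2 : ¬ p ^ 2 ∣ Nat.card G) {x : G}
    (hx : orderOf x = p) {L : List ℕ} (hnc : ∃ n, n ∈ L ∧
      Nat.card (normalizer ((zpowers x : Subgroup G) : Set G)) = p * n) {i0 : ℕ}
    (hi : ∀ H : Subgroup G, H ≠ ⊤ → i0 ≤ H.index) (E : ℕ → ℕ → Prop)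
    (hE : ∀ H : Subgroup G, H ≠ ⊤ → ∀ n ∈ L, ∀ f, f ∣ n → E H.index f →
      (f = n → ∀ s a : ℕ, s.Prime → s ≠ p → s ^ a ∣ Nat.card H → ¬ s ^ (a + 1) ∣ Nat.card H → s ^ a ≡ 1 [MOD p]) → False)
    (hnum : ∀ n ∈ L, ∀ f, f ∣ n → f ≠ 0 → ∀ m, i0 ≤ m → m < (p + 1) * f → m % p = f % p → m ∣ Nat.card G → E m f) :
    FprRow (p + 1) 1 p G := by
  intro H hH
  refine ⟨x, ⟨1, by rw [hx, pow_one]⟩, ?_⟩
  rw [one_mul]
  obtain ⟨n, hnL, hn⟩ := hnc
  rcases small_crit hp2 hx H with h0 | ⟨h1, h2, h3⟩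
  · rw [h0, mul_zero]; exact Nat.zero_le _
  set f := Nat.card (fixedBy (G ⧸ H) x) with hf
  by_cases hf0 : f = 0
  · rw [hf0, mul_zero]; exact Nat.zero_le _
  change (p + 1) * f ≤ H.index
  by_contra hcon
  push Not at hcon
  rw [hn] at h1 h3
  have h4 : f ∣ n := Nat.dvd_of_mul_dvd_mul_left hp.out.pos h1
  exact hE H hH n hnL f h4 (hnum n hnL f h4 hf0 H.index (hi H hH) hcon h2 H.index_dvd_card) fun h5 => h3 (by rw [h5])

theorem not_six : ¬ IsPrimePow 6 := by
  rintro ⟨p, k, hp, hk, h⟩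
  have hp := hp.nat_prime
  have h2 : 2 ∣ p ^ k := by rw [h]; norm_num
  have h3 : 3 ∣ p ^ k := by rw [h]; norm_num
  have h4 := (Nat.prime_dvd_prime_iff_eq Nat.prime_two hp).1 (Nat.prime_two.dvd_of_dvd_pow h2)
  have h5 := (Nat.prime_dvd_prime_iff_eq Nat.prime_three hp).1 (Nat.prime_three.dvd_of_dvd_pow h3)
  omega

/-- **The index of a proper subgroup of `³D₄(q)`.** -/
theorem index_3D4 (hq : IsPrimePow q) (hK : Fintype.card K = q ^ 3) (H : Subgroup ↥(twistedD4 K q)) (hH : H ≠ ⊤) :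
    q ^ 5 ≤ H.index := by
  have h5 := Cfsg.Agent.H934.HeisTwD4.bound_3D4 hq hK (Cfsg.Agent.S1071.result hq hK).1 H hH
  rw [show q ^ 10 = (q ^ 5) ^ 2 by ring] at h5
  exact (Nat.pow_le_pow_iff_left (by norm_num)).1 h5

/-- the numerical check -/
def chk (L : List ℕ) (p i0 C : ℕ) (ex : ℕ → ℕ → ℕ → Bool) : Bool :=
  L.all fun n => n != 0 && (List.range (n + 1)).all fun f => f == 0 || n % f != 0 ||
    (List.range ((p + 1) * f)).all fun m => decide (m < i0) || m % p != f % p || C % m != 0 || ex n f m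

theorem of_chk {L : List ℕ} {p i0 C : ℕ} {ex : ℕ → ℕ → ℕ → Bool} (h : chk L p i0 C ex = true) :
    ∀ n ∈ L, 0 < n ∧ ∀ f, f ∣ n → f ≠ 0 → ∀ m, i0 ≤ m → m < (p + 1) * f → m % p = f % p → m ∣ C → ex n f m = true := by
  intro n hn
  have h1 := List.all_eq_true.1 h n hn
  rw [Bool.and_eq_true] at h1
  have hn0 : n ≠ 0 := by simpa using h1.1
  refine ⟨Nat.pos_of_ne_zero hn0, fun f hf hf0 m h3 h4 h5 h6 => ?_⟩
  have h2 := List.all_eq_true.1 h1.2 f (List.mem_range.2 (Nat.lt_succ_of_le (Nat.le_of_dvd (Nat.pos_of_ne_zero hn0) hf)))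
  rw [Bool.or_eq_true, Bool.or_eq_true] at h2
  rcases h2 with (h2 | h2) | h2
  · exact absurd (by simpa using h2) hf0
  · rw [Nat.mod_eq_zero_of_dvd hf] at h2
    simp at h2
  · have h7 := List.all_eq_true.1 h2 m (List.mem_range.2 h4)
    rw [Bool.or_eq_true, Bool.or_eq_true, Bool.or_eq_true] at h7
    rcases h7 with ((h7 | h7) | h7) | h7
    · rw [decide_eq_true_eq] at h7
      omega
    · rw [h5] at h7
      simp at h7
    · rw [Nat.mod_eq_zero_of_dvd h6] at h7
      simp at h7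
    · exact h7

/-- the small fields -/
theorem row_3D4_small (hq : IsPrimePow q) (hK : Fintype.card K = q ^ 3) {p C : ℕ} [hp : Fact p.Prime]
    (ho : orderOf (q : ZMod p) = 12) (hpN : (p : ℤ) = 1 - (q : ℤ) ^ 2 + (q : ℤ) ^ 4)
    (hC : q ^ 12 * (q ^ 2 - 1) * (q ^ 6 - 1) * (q ^ 8 + q ^ 4 + 1) = C) (hp2 : ¬ p ^ 2 ∣ C)
    (hnum : chk [1, 2, 3, 4, 6] p (q ^ 5) C (fun _ f m => q == 2 && m == 32 && f == 6) = true) :
    FprRow (p + 1) 1 p ↥(twistedD4 K q) := by
  have hcard : Nat.card ↥(twistedD4 K q) = C := by rw [← hC]; exact Cfsg.Agent.S1067.result hq hK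
  have hp12 := le_of_ord hp.out (by norm_num) ho
  obtain ⟨T, hT, h1, h3⟩ := torusD hq hK hpN hp.out (by omega) (dvd_refl p)
  obtain ⟨y, hy⟩ := exists_prime_orderOf_dvd_card' (G := ↥T) p (by rw [h1])
  have hy' : orderOf (y : ↥(twistedD4 K q)) = p := by rw [← hy]; exact Subgroup.orderOf_coe y
  have hCy : Nat.card (centralizer ({(y : ↥(twistedD4 K q))} : Set ↥(twistedD4 K q))) = p := by
    apply le_antisymm
    · rw [← h1]
      exact Nat.card_le_card_of_injective _ (Subgroup.inclusion_injective (h3 _ y.2 hy'))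
    · have h4 : zpowers (y : ↥(twistedD4 K q)) ≤ centralizer ({(y : ↥(twistedD4 K q))} : Set ↥(twistedD4 K q)) := by
        rw [zpowers_le]
        exact mem_centralizer_singleton_iff.2 rfl
      have h5 := Nat.card_le_card_of_injective _ (Subgroup.inclusion_injective h4)
      rwa [Nat.card_zpowers, hy'] at h5
  refine row_prime (L := [1, 2, 3, 4, 6]) (i0 := q ^ 5) (by rw [hcard]; exact hp2) hy' ?_
    (fun H hH => index_3D4 hq hK H hH) (fun m f => q = 2 ∧ m = 32 ∧ f = 6) ?_ ?_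
  · obtain ⟨n, hn, h4⟩ := nc_3D4' hq hK hy' ho
    exact ⟨n, hn, by rw [h4, hCy]⟩
  · rintro H hH n hn f hfn ⟨rfl, hm, rfl⟩ hs
    have h6 : 6 = n := by
      simp only [List.mem_cons, List.not_mem_nil, or_false] at hn
      rcases hn with rfl | rfl | rfl | rfl | rfl
      · exact absurd (Nat.le_of_dvd (by norm_num) hfn) (by norm_num)
      · exact absurd (Nat.le_of_dvd (by norm_num) hfn) (by norm_num)
      · exact absurd (Nat.le_of_dvd (by norm_num) hfn) (by norm_num)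
      · exact absurd (Nat.le_of_dvd (by norm_num) hfn) (by norm_num)
      · rfl
    have hp13 : p = 13 := by
      have : (p : ℤ) = 13 := by rw [hpN]; norm_num
      exact_mod_cast this
    have h7 : Nat.card H * 32 = 2 ^ 12 * (2 ^ 2 - 1) * (2 ^ 6 - 1) * (2 ^ 8 + 2 ^ 4 + 1) := by
      rw [hC, ← hcard, ← H.card_mul_index, hm]
    have h8 : Nat.card H = 6604416 := by
      norm_num at h7
      omega
    have h9 := hs h6 7 2 (by norm_num) (by omega) (by rw [h8]; norm_num) (by rw [h8]; norm_num)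
    rw [hp13] at h9
    exact absurd h9 (by decide)
  · intro n hn f hf hf0 m h4 h5 h6 h7
    rw [hcard] at h7
    have h8 := (of_chk hnum n hn).2 f hf hf0 m h4 h5 h6 h7
    rw [Bool.and_eq_true, Bool.and_eq_true] at h8
    exact ⟨by simpa using h8.1.1, by simpa using h8.1.2, by simpa using h8.2⟩

/-- **`³D₄(q)`, `q` of order 12.** -/
theorem row_3D4 (hq : IsPrimePow q) (hK : Fintype.card K = q ^ 3) {p : ℕ} [hp : Fact p.Prime]
    (ho : orderOf (q : ZMod p) = 12) : FprRow (p + 1) 1 p ↥(twistedD4 K q) := by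
  have hq2 : 2 ≤ q := hq.two_le
  have hp12 := le_of_ord hp.out (by norm_num) ho
  obtain ⟨N, hN, hN0, hN1⟩ := exists_N12 hq2
  have hpN := dvd_12 ho hN
  by_cases h7 : 7 ≤ q
  · obtain ⟨T, hT, h1, h3⟩ := torusD hq hK hN hp.out (by omega) hpN
    refine row_of_nc hT (d := 1) (h1 ▸ dvd_refl _) (by rw [h1, one_mul]) hpN (fun h => hp.out.one_lt.ne' (Nat.dvd_one.1 h))
      hN0 h3 (B := 6) (fun x hx => ?_) (fun H hH => index_3D4 hq hK H hH) ?_
    · obtain ⟨n, hn, h4⟩ := nc_3D4' hq hK hx ho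
      rw [h4]
      refine Nat.mul_le_mul_left _ ?_
      simp only [List.mem_cons, List.not_mem_nil, or_false] at hn
      omega
    · have h8 : (p + 1) * 6 ≤ p * 7 := by omega
      calc (p + 1) * (N * 6) = ((p + 1) * 6) * N := by ring
        _ ≤ (p * 7) * q ^ 4 := Nat.mul_le_mul h8 (by
            have : 1 ≤ q ^ 2 := Nat.one_le_pow _ _ (by omega)
            omega)
        _ = p * (7 * q ^ 4) := by ring
        _ ≤ p * (q * q ^ 4) := Nat.mul_le_mul_left _ (Nat.mul_le_mul_right _ h7)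
        _ = p * q ^ 5 := by ring
  · have hc : q = 2 ∨ q = 3 ∨ q = 4 ∨ q = 5 := by
      have : q ≠ 6 := by rintro rfl; exact not_six hq
      omega
    have hpe : ∀ P : ℕ, P.Prime → N = P → p = P := fun P hP h => by
      rw [h] at hpN
      exact (Nat.prime_dvd_prime_iff_eq hp.out hP).1 hpN
    rcases hc with rfl | rfl | rfl | rfl
    · obtain rfl := hpe 13 (by norm_num) (by omega)
      exact row_3D4_small hq hK ho (by norm_num) (C := 211341312) (by norm_num) (by norm_num)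
        (by decide +kernel)
    · obtain rfl := hpe 73 (by norm_num) (by omega)
      exact row_3D4_small hq hK ho (by norm_num) (C := 20560831566912) (by norm_num) (by norm_num)
        (by (first | (set_option backward.isDefEq.respectTransparency.types false in set_option synthInstance.maxSize 99999 in (delta _root_.Cfsg.Agent.H448.FprExc.chk; exact _root_.Cfsg.Agent.FastDec.of (by decide +kernel))) | decide +kernel))
    · obtain rfl := hpe 241 (by norm_num) (by omega)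
      exact row_3D4_small hq hK ho (by norm_num) (C := 67802350642790400) (by norm_num) (by norm_num)
        (by (first | (set_option backward.isDefEq.respectTransparency.types false in set_option synthInstance.maxSize 99999 in (delta _root_.Cfsg.Agent.H448.FprExc.chk; exact _root_.Cfsg.Agent.FastDec.of (by decide +kernel))) | decide +kernel))
    · obtain rfl := hpe 601 (by norm_num) (by omega)
      exact row_3D4_small hq hK ho (by norm_num) (C := 35817806390625000000) (by norm_num) (by norm_num)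
        (by decide +kernel)

end D

end Cfsg.Agent.H448.FprExc
end
end
end
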