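import Cfsg.Agent.H448.FprExc.RowD4
import Cfsg.Agent.H129.DataG2h
import Cfsg.Agent.H129.DataG2
import Cfsg.Agent.H62.PPChev
import Cfsg.Agent.H934.HeisE6_m3
import Cfsg.Agent.H599.IdxG2
import Cfsg.Agent.H452.FprDeg
import Cfsg.Agent.S2338
import Cfsg.Agent.S1055
import Cfsg.Agent.S1059
import Cfsg.Agent.H129.RealT_m3
import Cfsg.Agent.H129.DataE7n
import Cfsg.Agent.H129.DataE6e
import Cfsg.Agent.H129.CycRow
import Cfsg.Agent.Prune
set_option linter.all false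

section
prune_inst 0x7f00000000000000000000000000000000000000000000000000000000000000000000000000000000000000000000000000000000000000000000000000000000000000000000000000000000000000003fffffffffffffffffffffffffffbeffbdffffffff

-- part: H448/FprExc/RowG2
section
set_option linter.all false
open scoped Cfsg.Agent.FastGrp

/-!
# Fixed point ratios: `G₂(q)`, `q` of order 3 or 6
-/

set_option autoImplicit false
set_option linter.unusedSectionVars false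
open Subgroup MulAction

namespace Cfsg.Agent.H448.FprExc

open Cfsg.Lie Cfsg.Agent.H409 Cfsg.Agent.H129 Cfsg.Agent.Nodes.RGDChev Cfsg.Agent.H378.ExcAdj
  Cfsg.Agent.H129.TorusTw

universe u

section Tor

variable {F : Type u} [Field F] [Fintype F]

theorem typ2 : IsType chevG2 2 CoxeterMatrix.G₂ := by simp

theorem notW2 {r : ℕ} (hr : r.Prime) (h8 : 7 ≤ r) : ¬ r ∣ Nat.card CoxeterMatrix.G₂.Group := fun h => by
  have := finite_W typ2 CoxeterMatrix.G₂.toCoxeterSystem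
  have := Cfsg.Agent.H378.LatCodim.le_of_dvd_card CoxeterMatrix.G₂.toCoxeterSystem typ2.isCartan hr h
  omega

theorem torus6 {q N : ℕ} (hF : Fintype.card F = q) (hN : (N : ℤ) = 1 - (q : ℤ) + (q : ℤ) ^ 2) {r : ℕ} (hr : r.Prime)
    (h7 : 7 ≤ r) (hrN : r ∣ N) :
    ∃ T : Subgroup ↥(chevG2.group F), IsCyclic ↥T ∧ Nat.card ↥T = N ∧
      ∀ y ∈ T, orderOf y = r → Subgroup.centralizer {y} ≤ T := by
  have := finite_W typ2 CoxeterMatrix.G₂.toCoxeterSystem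
  have hrq : (r : ℤ) ∣ 1 - (q : ℤ) + (q : ℤ) ^ 2 := by rw [← hN]; exact Int.natCast_dvd_natCast.2 hrN
  have hG : ∀ s, ¬ (r : ℤ) ∣ Gq DataG2h.B (q : ℤ) (DataG2h.R s) := by
    intro s hs
    rcases DataG2h.dvd_of_G hrq s hs with h1 | h1
    · exact not_dvd_int (m := 1) (by norm_num) (by omega) h1
    · exact not_dvd_int (m := 3) (by norm_num) (by omega) h1
  have hqN : q.Coprime N := UntwData.coprime_of_eq (a := (q : ℤ) - 1) (by rw [hN]; ring)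
  obtain ⟨T, h1, h3, h4, h5, -⟩ := UntwT.untw_T typ2 CoxeterMatrix.G₂.toCoxeterSystem (by norm_num) hF
    TorusChar.invC_G2 one_ne_zero DataG2h.hA DataG2h.chainOK DataG2h.cycOK DataG2h.rootOK (N := N)
    (by rw [DataG2h.fN_eq, hN]) hqN (d := 1) (Or.inl rfl)
  rw [one_mul] at h4
  exact ⟨T, h1, Nat.dvd_antisymm h3 h4, h5 r hr (notW2 hr h7) hG⟩

theorem torus3 {q N : ℕ} (hF : Fintype.card F = q) (hN : (N : ℤ) = 1 + (q : ℤ) + (q : ℤ) ^ 2) {r : ℕ} (hr : r.Prime)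
    (h7 : 7 ≤ r) (hrN : r ∣ N) :
    ∃ T : Subgroup ↥(chevG2.group F), IsCyclic ↥T ∧ Nat.card ↥T = N ∧
      ∀ y ∈ T, orderOf y = r → Subgroup.centralizer {y} ≤ T := by
  have := finite_W typ2 CoxeterMatrix.G₂.toCoxeterSystem
  have hrq : (r : ℤ) ∣ 1 + (q : ℤ) + (q : ℤ) ^ 2 := by rw [← hN]; exact Int.natCast_dvd_natCast.2 hrN
  have hG : ∀ s, ¬ (r : ℤ) ∣ Gq DataG2.B (q : ℤ) (DataG2.R s) := by
    intro s hs
    rcases DataG2.dvd_of_G hrq s hs with h1 | h1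
    · exact not_dvd_int (m := 1) (by norm_num) (by omega) h1
    · exact not_dvd_int (m := 3) (by norm_num) (by omega) h1
  have hqN : q.Coprime N := UntwData.coprime_of_eq (a := (q : ℤ) + 1) (by rw [hN]; ring)
  obtain ⟨T, h1, h3, h4, h5, -⟩ := UntwT.untw_T typ2 CoxeterMatrix.G₂.toCoxeterSystem (by norm_num) hF
    TorusChar.invC_G2 one_ne_zero DataG2.hA DataG2.chainOK DataG2.cycOK DataG2.rootOK (N := N)
    (by rw [DataG2.fN_eq, hN]) hqN (d := 1) (Or.inl rfl)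
  rw [one_mul] at h4
  exact ⟨T, h1, Nat.dvd_antisymm h3 h4, h5 r hr (notW2 hr h7) hG⟩

end Tor

/-- the data of a torus of `G₂(q)` -/
structure TorG2 (G : Type*) [Group G] (p N : ℕ) : Prop where
  ex : ∃ T : Subgroup G, IsCyclic ↥T ∧ Nat.card ↥T = N ∧ ∀ y ∈ T, orderOf y = p → Subgroup.centralizer {y} ≤ T
  nc : ∀ x : G, orderOf x = p → ∃ n, n ∈ [1, 2, 3, 4, 6] ∧ n ∣ p - 1 ∧
    Nat.card (normalizer ((zpowers x : Subgroup G) : Set G)) = Nat.card (centralizer ({x} : Set G)) * n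
  dvd : p ∣ N
  seven : 7 ≤ p

section Dat

variable {F : Type u} [Field F] [Fintype F] {p : ℕ} [hp : Fact p.Prime]

theorem seven_le (ho : orderOf (Fintype.card F : ZMod p) = 3 ∨ orderOf (Fintype.card F : ZMod p) = 6) : 7 ≤ p := by
  have h3 : 3 ∣ p - 1 := by
    rcases ho with h | h
    · exact Cfsg.Agent.H378.ExcNear.mod_of_od hp.out h (by norm_num)
    · exact (by norm_num : 3 ∣ 6).trans (Cfsg.Agent.H378.ExcNear.mod_of_od hp.out h (by norm_num))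
  have h2 := hp.out.two_le
  by_contra h7
  push Not at h7
  have h4 : p ≠ 4 := by rintro rfl; exact absurd hp.out (by norm_num)
  obtain ⟨c, hc⟩ := h3
  omega

theorem nc_G2 {m : ℕ} (hm : m = 3 ∨ m = 6) (ho : orderOf (Fintype.card F : ZMod p) = m) (x : ↥(chevG2.group F))
    (hx : orderOf x = p) : ∃ n, n ∈ [1, 2, 3, 4, 6] ∧ n ∣ p - 1 ∧
    Nat.card (normalizer ((zpowers x : Subgroup ↥(chevG2.group F)) : Set ↥(chevG2.group F))) =
      Nat.card (centralizer ({x} : Set ↥(chevG2.group F))) * n := by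
  have ho' : od (Nat.card F) p = m := by rw [Nat.card_eq_fintype_card]; exact ho
  obtain ⟨n, hn, h1, h2, h3, -⟩ := nc_untw typ2 hx ho' (by rcases hm with rfl | rfl <;> decide) (by omega)
  exact ⟨n, mem_of_totient_three hn (by omega), h2, h1⟩

theorem dvd_of_eval {m N : ℕ} (ho : orderOf (Fintype.card F : ZMod p) = m) (hm : 0 < m)
    (hN : ((Polynomial.cyclotomic m ℤ).eval ((Fintype.card F : ℕ) : ℤ)) = (N : ℤ)) : p ∣ N := by
  have h1 := Cfsg.Agent.H378.RegFin.cyclotomic_dvd (q := Fintype.card F) hp.out ho hm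
  rw [hN] at h1
  exact Int.natCast_dvd_natCast.1 h1

/-- the torus for the order 3 -/
theorem tor3 (ho : orderOf (Fintype.card F : ZMod p) = 3) {N : ℕ}
    (hN : (N : ℤ) = 1 + ((Fintype.card F : ℕ) : ℤ) + ((Fintype.card F : ℕ) : ℤ) ^ 2) : TorG2 ↥(chevG2.group F) p N := by
  have h7 := seven_le (F := F) (Or.inl ho)
  have hd : p ∣ N := dvd_of_eval ho (by norm_num) (by rw [eval_cyc3, hN]; ring)
  exact ⟨torus3 rfl hN hp.out h7 hd, fun x hx => nc_G2 (Or.inl rfl) ho x hx, hd, h7⟩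

/-- the torus for the order 6 -/
theorem tor6 (ho : orderOf (Fintype.card F : ZMod p) = 6) {N : ℕ}
    (hN : (N : ℤ) = 1 - ((Fintype.card F : ℕ) : ℤ) + ((Fintype.card F : ℕ) : ℤ) ^ 2) : TorG2 ↥(chevG2.group F) p N := by
  have h7 := seven_le (F := F) (Or.inr ho)
  have hd : p ∣ N := dvd_of_eval ho (by norm_num) (by rw [eval_cyc6, hN]; ring)
  exact ⟨torus6 rfl hN hp.out h7 hd, fun x hx => nc_G2 (Or.inr rfl) ho x hx, hd, h7⟩

end Dat

/-- the large fields -/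
theorem TorG2.row_large {G : Type*} [Group G] [Finite G] {p N : ℕ} [hp : Fact p.Prime] (h : TorG2 G p N) (hN : 0 < N)
    {i : ℕ} (hi : ∀ H : Subgroup G, H ≠ ⊤ → i ≤ H.index) (hle : 48 * N ≤ 7 * i) : FprRow (p + 1) 1 p G := by
  obtain ⟨T, hT, h1, h3⟩ := h.ex
  refine row_of_nc hT (d := 1) (h1 ▸ dvd_refl _) (by rw [h1, one_mul]) h.dvd
    (fun h => hp.out.one_lt.ne' (Nat.dvd_one.1 h)) hN h3 (B := 6) (fun x hx => ?_) hi ?_
  · obtain ⟨n, hn, -, h4⟩ := h.nc x hx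
    rw [h4]
    refine Nat.mul_le_mul_left _ ?_
    simp only [List.mem_cons, List.not_mem_nil, or_false] at hn
    omega
  · have h7 := h.seven
    have h8 : 7 * (p + 1) ≤ 8 * p := by omega
    have h9 : 7 * ((p + 1) * (N * 6)) ≤ 7 * (p * i) := by
      calc 7 * ((p + 1) * (N * 6)) = (7 * (p + 1)) * (6 * N) := by ring
        _ ≤ (8 * p) * (6 * N) := Nat.mul_le_mul_right _ h8
        _ = p * (48 * N) := by ring
        _ ≤ p * (7 * i) := Nat.mul_le_mul_left _ hle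
        _ = 7 * (p * i) := by ring
    exact Nat.le_of_mul_le_mul_left h9 (by norm_num)

/-- the small fields -/
theorem TorG2.row_small {G : Type*} [Group G] [Finite G] {p N c : ℕ} [hp : Fact p.Prime] (h : TorG2 G p N)
    (hN : N = p * c) {L : List ℕ} (hL : ∀ n ∈ [1, 2, 3, 4, 6], n ∣ p - 1 → c * n ∈ L)
    (hp2 : ¬ p ^ 2 ∣ Nat.card G) {i0 : ℕ}
    (hi : ∀ H : Subgroup G, H ≠ ⊤ → i0 ≤ H.index) (E : ℕ → ℕ → Prop)
    (hE : ∀ H : Subgroup G, H ≠ ⊤ → ∀ n ∈ L, ∀ f, f ∣ n → E H.index f →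
      (f = n → ∀ s a : ℕ, s.Prime → s ≠ p → s ^ a ∣ Nat.card H → ¬ s ^ (a + 1) ∣ Nat.card H → s ^ a ≡ 1 [MOD p]) → False)
    (hnum : ∀ n ∈ L, ∀ f, f ∣ n → f ≠ 0 → ∀ m, i0 ≤ m → m < (p + 1) * f → m % p = f % p → m ∣ Nat.card G → E m f) :
    FprRow (p + 1) 1 p G := by
  obtain ⟨T, hT, h1, h3⟩ := h.ex
  obtain ⟨y, hy⟩ := exists_prime_orderOf_dvd_card' (G := ↥T) p (by rw [h1]; exact h.dvd)
  have hy' : orderOf (y : G) = p := by rw [← hy]; exact Subgroup.orderOf_coe y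
  have hCy : Nat.card (centralizer ({(y : G)} : Set G)) = N := by
    have h4 : centralizer ({(y : G)} : Set G) = T := by
      apply le_antisymm (h3 _ y.2 hy')
      intro t ht
      have hc := hT.isMulCommutative.is_comm.comm (⟨t, ht⟩ : T) y
      exact mem_centralizer_singleton_iff.2 (congrArg Subtype.val hc)
    rw [h4, h1]
  obtain ⟨n, hn, hnp, hN'⟩ := h.nc _ hy'
  exact row_prime hp2 hy' ⟨c * n, hL n hn hnp, by rw [hN', hCy, hN, mul_assoc]⟩ hi E hE hnum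

section Idx

variable {F : Type u} [Field F] [Fintype F]

/-- subgroups of index prime to the characteristic -/
theorem own_idx (r : ℕ) [CharP F r] {H : Subgroup ↥(chevG2.group F)} (hH : H ≠ ⊤) (hi : ¬ r ∣ H.index) :
    Fintype.card F ^ 5 ≤ H.index := by
  have hrp : r.Prime := CharP.char_is_prime F r
  have hfr : Fact r.Prime := ⟨hrp⟩
  have hW := finite_W typ2 CoxeterMatrix.G₂.toCoxeterSystem
  have R := Cfsg.Agent.Nodes.RGDChev.rgd (K := F) typ2 CoxeterMatrix.G₂.toCoxeterSystem r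
  obtain ⟨i, h3⟩ := Cfsg.Agent.H62.PPIdx.exists_card_VJ_le R
    (Cfsg.Agent.Nodes.RGDChev.G1_eq_top typ2 CoxeterMatrix.G₂.toCoxeterSystem (K := F)) hH hi
  exact (Cfsg.Agent.H62.PPChev.pow_le_card_VJ typ2 CoxeterMatrix.G₂.toCoxeterSystem r i
    ((by decide +kernel : ∀ i : Fin 2, 5 ≤ Cfsg.Agent.H62.PPChev.num chevG2 i) i)).trans h3

end Idx

/-- a prime divisor of the order is at most the index -/
theorem prime_le_index {G : Type*} [Group G] [Finite G] [IsSimpleGroup G] {s : ℕ} (hs : s.Prime) (hd : s ∣ Nat.card G)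
    {H : Subgroup G} (hH : H ≠ ⊤) : s ≤ H.index := by
  classical
  have hinj : Function.Injective (MulAction.toPermHom G (G ⧸ H)) := by
    rw [← MonoidHom.ker_eq_bot_iff, ← Subgroup.normalCore_eq_ker]
    rcases (inferInstance : H.normalCore.Normal).eq_bot_or_eq_top with h | h
    · exact h
    · exact absurd (top_le_iff.1 (h ▸ H.normalCore_le)) hH
  have h1 := Subgroup.card_dvd_of_injective _ hinj
  rw [Nat.card_perm] at h1
  exact (hs.dvd_factorial).1 (hd.trans h1)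

section Rows

variable {F : Type u} [Field F] [Fintype F]

theorem simple_G2 (h3 : 3 ≤ Fintype.card F) : IsSimpleGroup ↥(chevG2.group F) ∧ ∃ x y : ↥(chevG2.group F), x * y ≠ y * x := by
  have hF : ∃ a : F, a ≠ 0 ∧ a ≠ 1 := by
    classical
    by_contra hcon
    push Not at hcon
    have h1 : (Finset.univ : Finset F) ⊆ {0, 1} := by
      intro a _
      by_cases h : a = 0
      · simp [h]
      · simp [hcon a h]
    have h2 := Finset.card_le_card h1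
    have h4 := Finset.card_le_two (a := (0 : F)) (b := 1)
    rw [Finset.card_univ] at h2
    omega
  obtain ⟨h1, h2⟩ := Cfsg.Agent.S1055.result hF
  refine ⟨h1, ?_⟩
  by_contra hcon
  push Not at hcon
  exact h2 ⟨⟨hcon⟩⟩

/-- the index for `q` prime to 6 -/
theorem idx_six (h2 : (2 : F) ≠ 0) (h3 : (3 : F) ≠ 0) (hs : IsSimpleGroup ↥(chevG2.group F))
    (H : Subgroup ↥(chevG2.group F)) (hH : H ≠ ⊤) : (Fintype.card F ^ 4 + 1) / 2 ≤ H.index := by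
  have h1 := Cfsg.Agent.H172.S3G2.pow_eight_le h2 h3 hs H hH
  have h4 : (Fintype.card F ^ 4) ^ 2 ≤ (2 * H.index) ^ 2 := by
    calc (Fintype.card F ^ 4) ^ 2 = Fintype.card F ^ 8 := by ring
      _ ≤ 4 * H.index ^ 2 := h1
      _ = _ := by ring
  have h5 := (Nat.pow_le_pow_iff_left (by norm_num)).1 h4
  omega

/-- the index for `q` a power of 3 -/
theorem idx_three (h3 : Fintype.card F % 3 = 0) (h4 : 3 < Fintype.card F) (H : Subgroup ↥(chevG2.group F)) (hH : H ≠ ⊤) :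
    Fintype.card F ^ 4 + Fintype.card F ^ 2 + 1 ≤ H.index := by
  obtain ⟨hs, hna⟩ := simple_G2 (F := F) (by omega)
  obtain ⟨k, ρ, h5, h6, h7⟩ := Cfsg.Agent.H452.FprDeg.exists_irr hna hH
  exact ((Cfsg.Agent.S2338.result k ρ h5 h6).2.2 h3 h4).trans h7

/-- the two tori -/
theorem exists_tor {p : ℕ} [hp : Fact p.Prime]
    (ho : orderOf (Fintype.card F : ZMod p) = 3 ∨ orderOf (Fintype.card F : ZMod p) = 6) :
    ∃ N, TorG2 ↥(chevG2.group F) p N ∧ 0 < N ∧ N ≤ Fintype.card F ^ 2 + Fintype.card F + 1 := by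
  have hq : 1 ≤ Fintype.card F := Fintype.card_pos
  generalize hq' : Fintype.card F = q at *
  have hqq : q ≤ q ^ 2 := Nat.le_self_pow (by norm_num) q
  rcases ho with ho | ho
  · refine ⟨q ^ 2 + q + 1, ?_, by positivity, le_rfl⟩
    rw [← hq'] at ho ⊢
    exact tor3 ho (by push_cast; ring)
  · refine ⟨q ^ 2 - q + 1, ?_, by positivity, by omega⟩
    have hqq' : Fintype.card F ≤ Fintype.card F ^ 2 := Nat.le_self_pow (by norm_num) _
    rw [← hq'] at ho ⊢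
    exact tor6 ho (by push_cast [hqq']; ring)

end Rows

end Cfsg.Agent.H448.FprExc
end

-- part: H448/FprExc/TorC
section
set_option linter.all false
open scoped Cfsg.Agent.FastGrp

/-!
# Fixed point ratios: `E₇` (7, 9), `E₆` (8), `²E₆` (8)
-/

set_option autoImplicit false
set_option linter.unusedSectionVars false
open Subgroup MulAction

namespace Cfsg.Agent.H448.FprExc

open Cfsg.Lie Cfsg.Agent.H409 Cfsg.Agent.H129 Cfsg.Agent.Nodes.RGDChev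

universe u

section Num

variable {q p : ℕ} [hp : Fact p.Prime]

theorem dvd_7 {N : ℕ} (h : orderOf (q : ZMod p) = 7) (hN : (N : ℤ) = 1 + (q : ℤ) + (q : ℤ) ^ 2 + (q : ℤ) ^ 3 +
    (q : ℤ) ^ 4 + (q : ℤ) ^ 5 + (q : ℤ) ^ 6) : p ∣ N := by
  have h1 : (q : ZMod p) ^ 7 = 1 := by rw [← h]; exact pow_orderOf_eq_one _
  have h2 : (q : ZMod p) - 1 ≠ 0 := by
    intro h3
    rw [sub_eq_zero.1 h3, orderOf_one] at h
    omega
  rw [← CharP.cast_eq_zero_iff (ZMod p) p]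
  have h3 := congrArg (fun z : ℤ => (z : ZMod p)) hN
  push_cast at h3
  have h4 : ((q : ZMod p) - 1) * (N : ZMod p) = 0 := by
    rw [h3]
    linear_combination h1
  exact (mul_eq_zero.1 h4).resolve_left h2

theorem dvd_9' {N : ℕ} (h : orderOf (q : ZMod p) = 9) (hN : (N : ℤ) = 1 + (q : ℤ) ^ 3 + (q : ℤ) ^ 6) : p ∣ N := by
  have h1 : (q : ZMod p) ^ 9 = 1 := by rw [← h]; exact pow_orderOf_eq_one _
  have h2 : (q : ZMod p) ^ 3 - 1 ≠ 0 := by
    intro h3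
    have := orderOf_dvd_of_pow_eq_one (sub_eq_zero.1 h3)
    rw [h] at this
    exact absurd (Nat.le_of_dvd (by norm_num) this) (by norm_num)
  rw [← CharP.cast_eq_zero_iff (ZMod p) p]
  have h3 := congrArg (fun z : ℤ => (z : ZMod p)) hN
  push_cast at h3
  have h4 : ((q : ZMod p) ^ 3 - 1) * (N : ZMod p) = 0 := by
    rw [h3]
    linear_combination h1
  exact (mul_eq_zero.1 h4).resolve_left h2

theorem dvd_8 {N : ℕ} (h : orderOf (q : ZMod p) = 8) (hN : (N : ℤ) = 1 + (q : ℤ) ^ 4) : p ∣ N := by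
  have h1 := half_eq (n := 4) (by norm_num) h
  rw [← CharP.cast_eq_zero_iff (ZMod p) p]
  have h3 := congrArg (fun z : ℤ => (z : ZMod p)) hN
  push_cast at h3
  rw [h3]
  linear_combination h1

end Num

section E7

open Cfsg.Agent.H129.TorusTw

variable {F : Type u} [Field F] [Fintype F]

theorem torus7 {q N M : ℕ} (hF : Fintype.card F = q) (hN : (N : ℤ) = 1 + (q : ℤ) + (q : ℤ) ^ 2 + (q : ℤ) ^ 3 +
    (q : ℤ) ^ 4 + (q : ℤ) ^ 5 + (q : ℤ) ^ 6) (hM : (M : ℤ) = -1 + (q : ℤ) ^ 7) {r : ℕ} (hr : r.Prime)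
    (h7 : 8 < r) (hrN : r ∣ N) :
    ∃ T : Subgroup ↥(chevE7.group F), IsCyclic ↥T ∧ Nat.card ↥T ∣ M ∧ M ∣ 2 * Nat.card ↥T ∧
      ∀ y ∈ T, orderOf y = r → Subgroup.centralizer {y} ≤ T := by
  have := finite_W typ7 CoxeterMatrix.E₇.toCoxeterSystem
  have hrq : (r : ℤ) ∣ 1 + (q : ℤ) + (q : ℤ) ^ 2 + (q : ℤ) ^ 3 + (q : ℤ) ^ 4 + (q : ℤ) ^ 5 + (q : ℤ) ^ 6 := by
    rw [← hN]; exact Int.natCast_dvd_natCast.2 hrN
  have hG : ∀ s, ¬ (r : ℤ) ∣ Gq DataE7s.B (q : ℤ) (DataE7s.R s) := by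
    intro s hs
    rcases DataE7s.dvd_of_G hrq s hs with h1 | h1 | h1
    · exact not_dvd_int (m := 1) (by norm_num) (by omega) h1
    · exact not_dvd_int (m := 2) (by norm_num) (by omega) h1
    · exact not_dvd_int (m := 7) (by norm_num) (by omega) h1
  have hqN : q.Coprime M := by
    rw [← Nat.isCoprime_iff_coprime]
    exact ⟨(q : ℤ) ^ 6, -1, by rw [hM]; ring⟩
  obtain ⟨T, h1, h3, h4, h5, -⟩ := UntwT.untw_T typ7 CoxeterMatrix.E₇.toCoxeterSystem (by norm_num) hF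
    TorusChar.invC_E7 (by norm_num) DataE7s.hA DataE7s.chainOK DataE7s.cycOK DataE7s.rootOK (N := M)
    (by rw [DataE7s.fN_eq, hM]) hqN (d := 2) (Or.inl rfl)
  exact ⟨T, h1, h3, h4, h5 r hr (notW7 hr h7) hG⟩

theorem torus9s {q N M : ℕ} (hF : Fintype.card F = q) (hN : (N : ℤ) = 1 + (q : ℤ) ^ 3 + (q : ℤ) ^ 6)
    (hM : (M : ℤ) = -1 + (q : ℤ) - (q : ℤ) ^ 3 + (q : ℤ) ^ 4 - (q : ℤ) ^ 6 + (q : ℤ) ^ 7) {r : ℕ} (hr : r.Prime)
    (h7 : 8 < r) (hrN : r ∣ N) :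
    ∃ T : Subgroup ↥(chevE7.group F), IsCyclic ↥T ∧ Nat.card ↥T ∣ M ∧ M ∣ 2 * Nat.card ↥T ∧
      ∀ y ∈ T, orderOf y = r → Subgroup.centralizer {y} ≤ T := by
  have := finite_W typ7 CoxeterMatrix.E₇.toCoxeterSystem
  have hrq : (r : ℤ) ∣ 1 + (q : ℤ) ^ 3 + (q : ℤ) ^ 6 := by
    rw [← hN]; exact Int.natCast_dvd_natCast.2 hrN
  have hG : ∀ s, ¬ (r : ℤ) ∣ Gq DataE7n.B (q : ℤ) (DataE7n.R s) := by
    intro s hs
    rcases DataE7n.dvd_of_G hrq s hs with h1 | h1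
    · exact not_dvd_int (m := 1) (by norm_num) (by omega) h1
    · exact not_dvd_int (m := 3) (by norm_num) (by omega) h1
  have hqN : q.Coprime M := by
    rw [← Nat.isCoprime_iff_coprime]
    exact ⟨1 - (q : ℤ) ^ 2 + (q : ℤ) ^ 3 - (q : ℤ) ^ 5 + (q : ℤ) ^ 6, -1, by rw [hM]; ring⟩
  obtain ⟨T, h1, h3, h4, h5, -⟩ := UntwT.untw_T typ7 CoxeterMatrix.E₇.toCoxeterSystem (by norm_num) hF
    TorusChar.invC_E7 (by norm_num) DataE7n.hA DataE7n.chainOK DataE7n.cycOK DataE7n.rootOK (N := M)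
    (by rw [DataE7n.fN_eq, hM]) hqN (d := 2) (Or.inl rfl)
  exact ⟨T, h1, h3, h4, h5 r hr (notW7 hr h7) hG⟩

/-- **`E₇(q)`, `q` of order 7.** -/
theorem row_E7_seven {p : ℕ} [hp : Fact p.Prime] (ho : orderOf (Fintype.card F : ZMod p) = 7) :
    FprRow (p + 1) 1 p ↥(chevE7.group F) := by
  have hs := (Cfsg.Agent.S1054.result (F := F) chevE7 (by simp)).1
  obtain ⟨q, hF⟩ : ∃ q, Fintype.card F = q := ⟨_, rfl⟩
  have hq2 : 2 ≤ q := by rw [← hF]; exact Fintype.one_lt_card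
  rw [hF] at ho
  have hi : ∀ H : Subgroup ↥(chevE7.group F), H ≠ ⊤ → 2 * q ^ 17 ≤ H.index := fun H hH => by
    rw [← hF]; exact Cfsg.Agent.H934.HeisE7.two_mul_le hs H hH
  have hp8 := le_of_ord hp.out (by norm_num) ho
  have hp9 : p ≠ 8 := by rintro rfl; exact absurd hp.out (by norm_num)
  have hN : ((1 + q + q ^ 2 + q ^ 3 + q ^ 4 + q ^ 5 + q ^ 6 : ℕ) : ℤ) = 1 + (q : ℤ) + (q : ℤ) ^ 2 + (q : ℤ) ^ 3 +
    (q : ℤ) ^ 4 + (q : ℤ) ^ 5 + (q : ℤ) ^ 6 := by push_cast; ring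
  have hpN := dvd_7 ho hN
  have h1q : 1 ≤ q ^ 7 := Nat.one_le_pow _ _ (by omega)
  have hM : ((q ^ 7 - 1 : ℕ) : ℤ) = -1 + (q : ℤ) ^ 7 := by push_cast [h1q]; ring
  obtain ⟨T, -, h1, h2, h3⟩ := torus7 hF hN hM hp.out (by omega) hpN
  have h4 : 2 ^ 7 ≤ q ^ 7 := Nat.pow_le_pow_left hq2 7
  have hpM : p ∣ q ^ 7 - 1 := by
    refine hpN.trans ⟨q - 1, ?_⟩
    obtain ⟨a, rfl⟩ : ∃ a, q = a + 1 := ⟨q - 1, by omega⟩
    simp only [Nat.add_sub_cancel]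
    zify [h1q]
    ring
  refine row_of_torus h1 h2 hpM (fun h => ?_) (by omega) h3 hi ?_
  · have := Nat.le_of_dvd (by norm_num) h
    omega
  · have h5 : p ≤ q ^ 7 - 1 := Nat.le_of_dvd (by omega) hpM
    calc (p + 1) * (q ^ 7 - 1) ≤ q ^ 7 * q ^ 7 := Nat.mul_le_mul (by omega) (by omega)
      _ = q ^ 14 := by ring
      _ ≤ q ^ 17 := Nat.pow_le_pow_right (by omega) (by norm_num)
      _ ≤ 2 * q ^ 17 := by omega

/-- **`E₇(q)`, `q` of order 9.** -/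
theorem row_E7_nine {p : ℕ} [hp : Fact p.Prime] (ho : orderOf (Fintype.card F : ZMod p) = 9) :
    FprRow (p + 1) 1 p ↥(chevE7.group F) := by
  have hs := (Cfsg.Agent.S1054.result (F := F) chevE7 (by simp)).1
  obtain ⟨q, hF⟩ : ∃ q, Fintype.card F = q := ⟨_, rfl⟩
  have hq2 : 2 ≤ q := by rw [← hF]; exact Fintype.one_lt_card
  rw [hF] at ho
  have hi : ∀ H : Subgroup ↥(chevE7.group F), H ≠ ⊤ → 2 * q ^ 17 ≤ H.index := fun H hH => by
    rw [← hF]; exact Cfsg.Agent.H934.HeisE7.two_mul_le hs H hH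
  have hp8 := le_of_ord hp.out (by norm_num) ho
  have hN : ((q ^ 6 + q ^ 3 + 1 : ℕ) : ℤ) = 1 + (q : ℤ) ^ 3 + (q : ℤ) ^ 6 := by push_cast; ring
  have hpN := dvd_9' ho hN
  have hM : (((q - 1) * (q ^ 6 + q ^ 3 + 1) : ℕ) : ℤ) =
      -1 + (q : ℤ) - (q : ℤ) ^ 3 + (q : ℤ) ^ 4 - (q : ℤ) ^ 6 + (q : ℤ) ^ 7 := by
    have h1q : 1 ≤ q := by omega
    push_cast [h1q]; ring
  obtain ⟨T, -, h1, h2, h3⟩ := torus9s hF hN hM hp.out (by omega) hpN
  have h4 : 2 ^ 3 ≤ q ^ 3 := Nat.pow_le_pow_left hq2 3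
  have h6 : q ^ 6 + q ^ 3 + 1 ≤ 2 * q ^ 6 - 1 := by
    have : q ^ 6 = q ^ 3 * q ^ 3 := by ring
    have h7 : q ^ 3 + 2 ≤ q ^ 6 := by nlinarith only [h4]
    (clear * - h7; omega)
  refine row_of_torus h1 h2 (hpN.mul_left _) (fun h => ?_) (Nat.mul_pos (by omega) (by positivity)) h3 hi ?_
  · have := Nat.le_of_dvd (by norm_num) h
    omega
  · have h5 : p ≤ q ^ 6 + q ^ 3 + 1 := Nat.le_of_dvd (by positivity) hpN
    calc (p + 1) * ((q - 1) * (q ^ 6 + q ^ 3 + 1)) ≤ (2 * q ^ 6) * (q * (2 * q ^ 6)) :=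
          Nat.mul_le_mul (by omega) (Nat.mul_le_mul (by omega) (by omega))
      _ = 2 * (2 ^ 1 * q ^ 13) := by ring
      _ ≤ 2 * (q ^ 1 * q ^ 13) := Nat.mul_le_mul_left _ (Nat.mul_le_mul_right _ (Nat.pow_le_pow_left hq2 1))
      _ = 2 * q ^ 14 := by ring
      _ ≤ 2 * q ^ 17 := Nat.mul_le_mul_left _ (Nat.pow_le_pow_right (by omega) (by norm_num))

end E7

/-- the numbers for the order 8 -/
theorem num_eight {q p : ℕ} (hq : 2 ≤ q) (hp : p ≤ q ^ 4 + 1) : (p + 1) * ((q ^ 2 - 1) * (q ^ 4 + 1)) ≤ q ^ 11 := by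
  have h1 : 2 ^ 4 ≤ q ^ 4 := Nat.pow_le_pow_left hq 4
  have h2 : 2 ^ 2 ≤ q ^ 2 := Nat.pow_le_pow_left hq 2
  have h3 : (q ^ 2 - 1) * (q ^ 4 + 1) ≤ q ^ 6 := by
    have h4 : (q ^ 2 - 1) * (q ^ 4 + 1) + (q ^ 4 + 1) = q ^ 2 * (q ^ 4 + 1) := by
      rw [← Nat.succ_mul]
      congr 1
      omega
    have h5 : q ^ 2 * (q ^ 4 + 1) = q ^ 6 + q ^ 2 := by ring
    have h6 : q ^ 2 ≤ q ^ 4 := Nat.pow_le_pow_right (by omega) (by norm_num)
    omega
  calc (p + 1) * ((q ^ 2 - 1) * (q ^ 4 + 1)) ≤ (2 * q ^ 4) * q ^ 6 := Nat.mul_le_mul (by omega) h3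
    _ = 2 * q ^ 10 := by ring
    _ ≤ q * q ^ 10 := Nat.mul_le_mul_right _ hq
    _ = q ^ 11 := by ring

section E6

open Cfsg.Agent.H129.TorusTw

variable {F : Type u} [Field F] [Fintype F]

theorem torus8 {q N M : ℕ} (hF : Fintype.card F = q) (hN : (N : ℤ) = 1 + (q : ℤ) ^ 4)
    (hM : (M : ℤ) = -1 + (q : ℤ) ^ 2 - (q : ℤ) ^ 4 + (q : ℤ) ^ 6) {r : ℕ} (hr : r.Prime)
    (h7 : 8 < r) (hrN : r ∣ N) :
    ∃ T : Subgroup ↥(chevE6.group F), IsCyclic ↥T ∧ Nat.card ↥T ∣ M ∧ M ∣ 3 * Nat.card ↥T ∧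
      ∀ y ∈ T, orderOf y = r → Subgroup.centralizer {y} ≤ T := by
  have := finite_W typ6 CoxeterMatrix.E₆.toCoxeterSystem
  have hrq : (r : ℤ) ∣ 1 + (q : ℤ) ^ 4 := by rw [← hN]; exact Int.natCast_dvd_natCast.2 hrN
  have hG : ∀ s, ¬ (r : ℤ) ∣ Gq DataE6e.B (q : ℤ) (DataE6e.R s) := by
    intro s hs
    rcases DataE6e.dvd_of_G hrq s hs with h1 | h1
    · exact not_dvd_int (m := 1) (by norm_num) (by omega) h1
    · exact not_dvd_int (m := 2) (by norm_num) (by omega) h1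
  have hqN : q.Coprime M := by
    rw [← Nat.isCoprime_iff_coprime]
    exact ⟨(q : ℤ) - (q : ℤ) ^ 3 + (q : ℤ) ^ 5, -1, by rw [hM]; ring⟩
  obtain ⟨T, h1, h3, h4, h5, -⟩ := UntwT.untw_T typ6 CoxeterMatrix.E₆.toCoxeterSystem (by norm_num) hF
    TorusChar.invC_E6 (by norm_num) DataE6e.hA DataE6e.chainOK DataE6e.cycOK DataE6e.rootOK (N := M)
    (by rw [DataE6e.fN_eq, hM]) hqN (d := 3) (Or.inl rfl)
  exact ⟨T, h1, h3, h4, h5 r hr (notW6 hr h7) hG⟩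

/-- **`E₆(q)`, `q` of order 8.** -/
theorem row_E6_eight {p : ℕ} [hp : Fact p.Prime] (ho : orderOf (Fintype.card F : ZMod p) = 8) :
    FprRow (p + 1) 1 p ↥(chevE6.group F) := by
  have hs := (Cfsg.Agent.S1054.result (F := F) chevE6 (by simp)).1
  obtain ⟨q, hF⟩ : ∃ q, Fintype.card F = q := ⟨_, rfl⟩
  have hq2 : 2 ≤ q := by rw [← hF]; exact Fintype.one_lt_card
  rw [hF] at ho
  have hi : ∀ H : Subgroup ↥(chevE6.group F), H ≠ ⊤ → 2 * q ^ 11 ≤ H.index := fun H hH => by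
    rw [← hF]; exact Cfsg.Agent.H934.HeisE6.two_mul_le hs H hH
  have hp8 := le_of_ord hp.out (by norm_num) ho
  have hN : ((q ^ 4 + 1 : ℕ) : ℤ) = 1 + (q : ℤ) ^ 4 := by push_cast; ring
  have hpN := dvd_8 ho hN
  have h2 : 2 ^ 2 ≤ q ^ 2 := Nat.pow_le_pow_left hq2 2
  have h2' : 1 ≤ q ^ 2 := by omega
  have hM : (((q ^ 2 - 1) * (q ^ 4 + 1) : ℕ) : ℤ) = -1 + (q : ℤ) ^ 2 - (q : ℤ) ^ 4 + (q : ℤ) ^ 6 := by
    push_cast [h2']; ring
  obtain ⟨T, -, h1, h3, h4⟩ := torus8 hF hN hM hp.out (by omega) hpN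
  refine row_of_torus h1 h3 (hpN.mul_left _) (fun h => ?_) (Nat.mul_pos (by omega) (by positivity)) h4 hi ?_
  · have := Nat.le_of_dvd (by norm_num) h
    omega
  · exact (num_eight hq2 (Nat.le_of_dvd (by positivity) hpN)).trans (by omega)

end E6

section TE6

variable {K : Type u} [Field K] [Fintype K] {q : ℕ}

theorem torusT8 (hq : IsPrimePow q) (hK : Fintype.card K = q ^ 2) {N M : ℕ} (hN : (N : ℤ) = 1 + (q : ℤ) ^ 4)
    (hM : (M : ℤ) = -1 + (q : ℤ) ^ 2 - (q : ℤ) ^ 4 + (q : ℤ) ^ 6) {r : ℕ} (hr : r.Prime) (h7 : 8 < r) (hrN : r ∣ N) :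
    ∃ T : Subgroup ↥(twistedE6 K q), IsCyclic ↥T ∧ Nat.card ↥T ∣ M ∧ M ∣ Nat.gcd 3 (q + 1) * Nat.card ↥T ∧
      ∀ y ∈ T, orderOf y = r → Subgroup.centralizer {y} ≤ T := by
  have hrq : (r : ℤ) ∣ 1 + (q : ℤ) ^ 4 := by rw [← hN]; exact Int.natCast_dvd_natCast.2 hrN
  have hG : ∀ s, ¬ (r : ℤ) ∣ H129.TorusTw.Gq H129.DataTE6e.B (q : ℤ) (H129.DataTE6e.R s) := by
    intro s hs
    rcases H129.DataTE6e.dvd_of_G hrq s hs with h1 | h1
    · exact not_dvd_int (m := 1) (by norm_num) (by omega) h1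
    · exact not_dvd_int (m := 2) (by norm_num) (by omega) h1
  have hqN : q.Coprime M := by
    rw [← Nat.isCoprime_iff_coprime]
    exact ⟨(q : ℤ) - (q : ℤ) ^ 3 + (q : ℤ) ^ 5, -1, by rw [hM]; ring⟩
  obtain ⟨T, h1, h3, h4, h5, -⟩ := H129.TwT.flip_T hq hK H129.DataTE6e.hA H129.DataTE6e.chainOK H129.DataTE6e.hd_pi
    H129.DataTE6e.cycOK H129.DataTE6e.rootOK H129.DataTE6e.chain2OK H129.DataTE6e.hd2_eq (N := M)
    (by rw [H129.DataTE6e.fN_eq, hM]) hqN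
  exact ⟨T, h1, h3, h4, h5 r hr (notW6 hr h7) hG⟩

/-- **`²E₆(q)`, `q` of order 8.** -/
theorem row_2E6_eight (hq : IsPrimePow q) (hK : Fintype.card K = q ^ 2) {p : ℕ} [hp : Fact p.Prime]
    (ho : orderOf (q : ZMod p) = 8) : FprRow (p + 1) 1 p ↥(twistedE6 K q) := by
  have hs := (Cfsg.Agent.S1070.result hq hK).1
  have hq2 : 2 ≤ q := hq.two_le
  have hi : ∀ H : Subgroup ↥(twistedE6 K q), H ≠ ⊤ → q ^ 11 ≤ H.index := fun H hH => by
    have h5 := Cfsg.Agent.H934.HeisTwE6.bound_2E6 hq hK hs H hH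
    rw [show q ^ 22 = (q ^ 11) ^ 2 by ring] at h5
    exact (Nat.pow_le_pow_iff_left (by norm_num)).1 h5
  have hp8 := le_of_ord hp.out (by norm_num) ho
  have hN : ((q ^ 4 + 1 : ℕ) : ℤ) = 1 + (q : ℤ) ^ 4 := by push_cast; ring
  have hpN := dvd_8 ho hN
  have h2 : 2 ^ 2 ≤ q ^ 2 := Nat.pow_le_pow_left hq2 2
  have h2' : 1 ≤ q ^ 2 := by omega
  have hM : (((q ^ 2 - 1) * (q ^ 4 + 1) : ℕ) : ℤ) = -1 + (q : ℤ) ^ 2 - (q : ℤ) ^ 4 + (q : ℤ) ^ 6 := by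
    push_cast [h2']; ring
  obtain ⟨T, -, h1, h3, h4⟩ := torusT8 hq hK hN hM hp.out (by omega) hpN
  refine row_of_torus h1 h3 (hpN.mul_left _) (fun h => ?_) (Nat.mul_pos (by omega) (by positivity)) h4 hi
    (num_eight hq2 (Nat.le_of_dvd (by positivity) hpN))
  have := Nat.le_of_dvd (by norm_num) (h.trans (Nat.gcd_dvd_left 3 (q + 1)))
  omega

end TE6

end Cfsg.Agent.H448.FprExc
end
end
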